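import Mathlib

/-!
Fixed points in transitive actions of solvable groups generated by a class of elements of prime
order at least `5`.
-/

set_option autoImplicit false

open scoped commutatorElement

namespace CfsgLib.FixBound

variable {G : Type*} [Group G] [Finite G]

/-- A minimal normal subgroup above a normal subgroup is abelian modulo it. -/
theorem commutator_le_of_minimal [Group.IsSolvable G] (L M : Subgroup G) [L.Normal] [M.Normal] (hLM : L < M)
    (hmin : ∀ K : Subgroup G, K.Normal → L ≤ K → K < M → K = L) : ⁅M, M⁆ ≤ L := by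
  by_contra hc
  have hK : ⁅M, M⁆ ⊔ L = M := by
    by_contra hne
    have h2 : ⁅M, M⁆ ⊔ L ≤ M := sup_le (Subgroup.commutator_le_self M) hLM.le
    exact hc (le_sup_left.trans (hmin _ inferInstance le_sup_right (lt_of_le_of_ne h2 hne)).le)
  set q := QuotientGroup.mk' L with hq
  have hperf : ⁅M.map q, M.map q⁆ = M.map q := by
    conv_rhs => rw [← hK]
    rw [Subgroup.map_sup, Subgroup.map_commutator, hq, QuotientGroup.map_mk'_self, sup_bot_eq]
  obtain ⟨n, hn⟩ := (inferInstance : Group.IsSolvable (G ⧸ L)).solvable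
  have hle : ∀ n, M.map q ≤ derivedSeries (G ⧸ L) n := by
    intro n
    induction n with
    | zero => exact le_top
    | succ n ih =>
      rw [derivedSeries_succ]
      exact hperf.ge.trans (Subgroup.commutator_mono ih ih)
  have : M.map q = ⊥ := le_bot_iff.mp ((hle n).trans hn.le)
  rw [Subgroup.map_eq_bot_iff, QuotientGroup.ker_mk'] at this
  exact hLM.not_ge this

/-- The case of a maximal subgroup containing the element. -/
theorem three_mul_fixed_le_coatom [Group.IsSolvable G] (H : Subgroup G) (hH : IsCoatom H) (y : G) (hy : y ∈ H)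
    {p : ℕ} (hp2 : Odd p) (hyp : y ^ p = 1) (hgen : Subgroup.normalClosure ({y} : Set G) = ⊤) :
    3 * Nat.card {c : G ⧸ H // y • c = c} ≤ Nat.card (G ⧸ H) := by
  classical
  set L := H.normalCore with hL
  have hLH : L ≤ H := H.normalCore_le
  have hLtop : L < ⊤ := lt_of_le_of_lt hLH hH.1.lt_top
  obtain ⟨M, ⟨hMn, hLM⟩, hmin'⟩ := Set.Finite.exists_minimal (Set.toFinite
    {M : Subgroup G | M.Normal ∧ L < M}) ⟨⊤, inferInstance, hLtop⟩
  have hmin : ∀ K : Subgroup G, K.Normal → L ≤ K → K < M → K = L := by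
    intro K hK hLK hKM
    by_contra hne
    exact hKM.not_ge (hmin' ⟨hK, lt_of_le_of_ne hLK (Ne.symm hne)⟩ hKM.le)
  have hab := commutator_le_of_minimal L M hLM hmin
  have hMH : ¬ M ≤ H := fun h => hLM.not_ge (Subgroup.normal_le_normalCore.mpr h)
  have hsup : M ⊔ H = ⊤ :=
    hH.2 _ (lt_of_le_of_ne le_sup_right (fun e => hMH (le_sup_left.trans e.ge)))
  have hcore : ∀ K : Subgroup G, K ≤ H → (∀ h ∈ H, ∀ k ∈ K, h * k * h⁻¹ ∈ K) →
      (∀ m ∈ M, ∀ k ∈ K, m * k * m⁻¹ ∈ K) → K ≤ L := by
    intro K hKH h1 h2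
    haveI : K.Normal := ⟨fun k hk g => by
      obtain ⟨m, hm, h, hh, rfl⟩ := Subgroup.mem_sup_of_normal_left.mp (hsup ▸ Subgroup.mem_top g : g ∈ M ⊔ H)
      have := h2 m hm _ (h1 h hh k hk)
      rwa [mul_inv_rev, show m * h * k * (h⁻¹ * m⁻¹) = m * (h * k * h⁻¹) * m⁻¹ by group]⟩
    exact Subgroup.normal_le_normalCore.mpr hKH
  have hinter : M ⊓ H ≤ L := by
    refine (show M ⊓ H ≤ (M ⊓ H) ⊔ L from le_sup_left).trans (hcore _ (sup_le inf_le_right hLH) ?_ ?_)
    · intro h hh k hk
      obtain ⟨a, ha, b, hb, rfl⟩ := Subgroup.mem_sup_of_normal_right.mp hk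
      rw [show h * (a * b) * h⁻¹ = h * a * h⁻¹ * (h * b * h⁻¹) by group]
      exact Subgroup.mul_mem_sup ⟨hMn.conj_mem a ha.1 h, H.mul_mem (H.mul_mem hh ha.2) (H.inv_mem hh)⟩
        (H.normalCore_normal.conj_mem b hb h)
    · intro m hm k hk
      have hkM : k ∈ M := sup_le inf_le_left hLM.le hk
      rw [show m * k * m⁻¹ = ⁅m, k⁆ * k by rw [commutatorElement_def]; group]
      exact mul_mem (Subgroup.mem_sup_right (hab (Subgroup.commutator_mem_commutator hm hkM))) hk
  set q := QuotientGroup.mk' L with hq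
  set C := M ⊓ (Subgroup.centralizer ({q y} : Set (G ⧸ L))).comap q with hC
  have hfix : ∀ m ∈ M, (y • (m : G ⧸ H) = (m : G ⧸ H) ↔ m ∈ C) := by
    intro m hm
    rw [MulAction.Quotient.smul_coe, smul_eq_mul, QuotientGroup.eq, hC, Subgroup.mem_inf,
      Subgroup.mem_comap, Subgroup.mem_centralizer_singleton_iff]
    have e : (y * m)⁻¹ * m = (m⁻¹ * (y⁻¹ * m * y)) * y⁻¹ := by group
    rw [e, H.mul_mem_cancel_right (inv_mem hy)]
    refine ⟨fun h => ⟨hm, ?_⟩, fun h => hLH ?_⟩
    · have h' : m⁻¹ * (y⁻¹ * m * y) ∈ L := hinter ⟨M.mul_mem (M.inv_mem hm) (by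
        simpa using hMn.conj_mem m hm y⁻¹), h⟩
      have := (QuotientGroup.eq_one_iff _).mpr h'
      change q (m⁻¹ * (y⁻¹ * m * y)) = 1 at this
      simp only [map_mul, map_inv] at this
      rw [inv_mul_eq_one, mul_assoc, eq_inv_mul_iff_mul_eq] at this
      exact this.symm
    · apply (QuotientGroup.eq_one_iff _).mp
      change q (m⁻¹ * (y⁻¹ * m * y)) = 1
      simp only [map_mul, map_inv]
      rw [inv_mul_eq_one, mul_assoc, eq_inv_mul_iff_mul_eq]
      exact h.2.symm
  have hCy : ∀ m ∈ C, y * m * y⁻¹ ∈ C := by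
    intro m hm
    refine ⟨hMn.conj_mem m hm.1 y, ?_⟩
    have h := hm.2
    change q m ∈ Subgroup.centralizer _ at h
    change q (y * m * y⁻¹) ∈ Subgroup.centralizer _
    rw [Subgroup.mem_centralizer_singleton_iff] at h ⊢
    simp only [map_mul, map_inv]
    rw [show q y * q m * (q y)⁻¹ = q m by rw [← h, mul_inv_cancel_right]]
    exact h
  -- the element does not centralise the chief factor
  have hne : C ≠ M := by
    intro e
    set K := (Subgroup.centralizer ((M.map q : Subgroup (G ⧸ L)) : Set (G ⧸ L))).comap q with hK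
    haveI : (M.map q).Normal := Subgroup.Normal.map hMn q (QuotientGroup.mk'_surjective L)
    haveI : K.Normal := Subgroup.Normal.comap inferInstance q
    have hyK : y ∈ K := by
      rw [hK, Subgroup.mem_comap, Subgroup.mem_centralizer_iff]
      rintro _ ⟨m, hm, rfl⟩
      rw [← e] at hm
      exact Subgroup.mem_centralizer_singleton_iff.mp hm.2
    have hKL : K ⊓ H ≤ L := by
      refine hcore _ inf_le_right ?_ ?_
      · intro h hh k hk
        exact ⟨(inferInstance : K.Normal).conj_mem k hk.1 h, H.mul_mem (H.mul_mem hh hk.2) (H.inv_mem hh)⟩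
      · intro m hm k hk
        refine ⟨(inferInstance : K.Normal).conj_mem k hk.1 m, ?_⟩
        have h1 : q (m * k * m⁻¹ * k⁻¹) = 1 := by
          have := Subgroup.mem_centralizer_iff.mp hk.1 (q m) ⟨m, hm, rfl⟩
          simp only [map_mul, map_inv]
          rw [this]; group
        have h2 := mul_mem (hLH ((QuotientGroup.eq_one_iff _).mp h1)) hk.2
        rwa [inv_mul_cancel_right] at h2
    have : (⊤ : Subgroup G) ≤ L := hgen ▸ Subgroup.normalClosure_le_normal
      (Set.singleton_subset_iff.mpr (hKL ⟨hyK, hy⟩))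
    exact hLtop.not_ge this
  have hidx : 3 ≤ C.relIndex M := by
    have h0 : C.relIndex M ≠ 0 := Subgroup.index_ne_zero_of_finite
    have h1 : C.relIndex M ≠ 1 := fun h => hne (le_antisymm inf_le_left (Subgroup.relIndex_eq_one.mp h))
    by_contra hlt
    have h2 : C.relIndex M = 2 := by omega
    obtain ⟨m, hm, hmC⟩ := SetLike.exists_of_lt (lt_of_le_of_ne (inf_le_left : C ≤ M) hne)
    have hidx2 := Subgroup.index_eq_two_iff.mp (show (C.subgroupOf M).index = 2 from h2)
    have hmem : ∀ a ∈ M, ∀ b ∈ M, a ∉ C → b ∉ C → a * b ∈ C := by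
      intro a ha b hb hac hbc
      have := (Subgroup.mul_mem_iff_of_index_two (show (C.subgroupOf M).index = 2 from h2)
        (a := ⟨a, ha⟩) (b := ⟨b, hb⟩)).mpr
        ⟨fun h => absurd h hac, fun h => absurd h hbc⟩
      exact this
    have hm2 : y * m * y⁻¹ ∉ C := by
      intro h
      have hyn : ∀ n : ℕ, y ^ n * (y * m * y⁻¹) * (y ^ n)⁻¹ ∈ C := by
        intro n
        induction n with
        | zero => simpa using h
        | succ n ih =>
          have := hCy _ ih
          rwa [show y * (y ^ n * (y * m * y⁻¹) * (y ^ n)⁻¹) * y⁻¹ =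
            y ^ (n + 1) * (y * m * y⁻¹) * (y ^ (n + 1))⁻¹ by rw [pow_succ']; group] at this
      obtain ⟨j, hj⟩ := hp2
      have := hyn (p - 1)
      rw [show y ^ (p - 1) * (y * m * y⁻¹) * (y ^ (p - 1))⁻¹ = y ^ (p - 1 + 1) * m * (y ^ (p - 1 + 1))⁻¹ by
        rw [pow_succ]; group, Nat.sub_add_cancel (by omega), hyp] at this
      simp only [inv_one, one_mul, mul_one] at this
      exact hmC this
    set c := m⁻¹ * (y * m * y⁻¹) with hc
    have hcC : c ∈ C := hmem _ (inv_mem hm) _ (hMn.conj_mem m hm y)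
      (fun h => hmC (inv_inv m ▸ C.inv_mem h)) hm2
    have hcomm : ∀ a ∈ M, ∀ b ∈ M, Commute (q a) (q b) := by
      intro a ha b hb
      have := (QuotientGroup.eq_one_iff _).mpr (hab (Subgroup.commutator_mem_commutator ha hb))
      change q ⁅a, b⁆ = 1 at this
      rw [map_commutatorElement, commutatorElement_eq_one_iff_commute] at this
      exact this
    have hyc : q y * q c = q c * q y := (Subgroup.mem_centralizer_singleton_iff.mp hcC.2).symm
    have hym : q y * q m * (q y)⁻¹ = q m * q c := by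
      rw [hc]; simp only [map_mul, map_inv]; group
    have hsq : q c * q c = 1 := by
      have hm2' : q y * (q m * q m) = (q m * q m) * q y := by
        have := (Subgroup.mem_centralizer_singleton_iff.mp (hmem m hm m hm hmC hmC).2).symm
        rwa [map_mul] at this
      have e : q m * q m * (q c * q c) = q m * q m := by
        calc q m * q m * (q c * q c) = q m * (q m * q c) * q c := by group
          _ = q m * (q c * q m) * q c := by rw [(hcomm m hm c hcC.1).eq]
          _ = (q m * q c) * (q m * q c) := by group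
          _ = (q y * q m * (q y)⁻¹) * (q y * q m * (q y)⁻¹) := by rw [hym]
          _ = q y * (q m * q m) * (q y)⁻¹ := by group
          _ = q m * q m := by rw [hm2', mul_inv_cancel_right]
      exact mul_eq_left.mp e
    have hpow : ∀ n : ℕ, q y ^ n * q m * (q y ^ n)⁻¹ = q m * q c ^ n := by
      intro n
      induction n with
      | zero => simp
      | succ n ih =>
        have hcn : Commute (q y) (q c ^ n) := (show Commute (q y) (q c) from hyc).pow_right n
        calc q y ^ (n + 1) * q m * (q y ^ (n + 1))⁻¹ = q y * (q y ^ n * q m * (q y ^ n)⁻¹) * (q y)⁻¹ := by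
              rw [pow_succ']; group
          _ = q y * q m * (q c ^ n) * (q y)⁻¹ := by rw [ih, mul_assoc (q y) (q m)]
          _ = q y * q m * ((q y)⁻¹ * q c ^ n) := by rw [mul_assoc, hcn.inv_left.eq]
          _ = q y * q m * (q y)⁻¹ * q c ^ n := by group
          _ = q m * q c * q c ^ n := by rw [hym]
          _ = _ := by rw [mul_assoc, ← pow_succ']
    have h3 := hpow p
    rw [← map_pow, hyp, map_one, one_mul, inv_one, mul_one, left_eq_mul] at h3
    obtain ⟨j, rfl⟩ := hp2
    rw [pow_succ, pow_mul, pow_two, hsq, one_pow, one_mul] at h3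
    have hc1 : q c = 1 := h3
    rw [hc1, mul_one, mul_inv_eq_iff_eq_mul] at hym
    exact hmC ⟨hm, Subgroup.mem_comap.mpr (Subgroup.mem_centralizer_singleton_iff.mpr hym.symm)⟩
  -- counting
  have htot : Nat.card (G ⧸ H) = L.relIndex M := by
    let f : ↥M ⧸ L.subgroupOf M → G ⧸ H := Quotient.map' (fun m => (m : G)) (by
      intro a b hab
      rw [QuotientGroup.leftRel_apply, Subgroup.mem_subgroupOf] at hab
      rw [QuotientGroup.leftRel_apply]
      exact hLH hab)
    refine (Nat.card_congr (Equiv.ofBijective f ⟨?_, ?_⟩)).symm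
    · rintro ⟨a⟩ ⟨b⟩ hab
      refine Quotient.sound ?_
      change QuotientGroup.leftRel _ a b
      rw [QuotientGroup.leftRel_apply, Subgroup.mem_subgroupOf]
      exact hinter ⟨M.mul_mem (M.inv_mem a.2) b.2, QuotientGroup.eq.mp hab⟩
    · rintro ⟨g⟩
      obtain ⟨m, hm, h, hh, rfl⟩ := Subgroup.mem_sup_of_normal_left.mp (hsup ▸ Subgroup.mem_top g : g ∈ M ⊔ H)
      exact ⟨QuotientGroup.mk ⟨m, hm⟩, QuotientGroup.eq.mpr (by simpa using hh)⟩
  have hfixcard : Nat.card {c : G ⧸ H // y • c = c} ≤ L.relIndex C := by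
    let f : ↥C ⧸ L.subgroupOf C → {c : G ⧸ H // y • c = c} := Quotient.lift
      (fun m => ⟨((m : G) : G ⧸ H), (hfix m m.2.1).mpr m.2⟩) (by
      intro a b hab
      change QuotientGroup.leftRel _ a b at hab
      rw [QuotientGroup.leftRel_apply, Subgroup.mem_subgroupOf] at hab
      exact Subtype.ext (QuotientGroup.eq.mpr (hLH hab)))
    refine Nat.card_le_card_of_surjective f ?_
    rintro ⟨⟨g⟩, hg⟩
    obtain ⟨m, hm, h, hh, rfl⟩ := Subgroup.mem_sup_of_normal_left.mp (hsup ▸ Subgroup.mem_top g : g ∈ M ⊔ H)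
    have e : ((m * h : G) : G ⧸ H) = (m : G ⧸ H) := QuotientGroup.eq.mpr (by
      simpa [mul_assoc] using inv_mem hh)
    refine ⟨QuotientGroup.mk ⟨m, (hfix m hm).mp ?_⟩, Subtype.ext e.symm⟩
    rw [← e]; exact hg
  have hLC : L ≤ C := le_inf hLM.le (fun l hl => by
    rw [Subgroup.mem_comap, Subgroup.mem_centralizer_singleton_iff,
      show q l = 1 from (QuotientGroup.eq_one_iff l).mpr hl, one_mul, mul_one])
  rw [htot, ← Subgroup.relIndex_mul_relIndex L C M hLC inf_le_left]
  calc 3 * Nat.card {c : G ⧸ H // y • c = c} ≤ 3 * L.relIndex C := Nat.mul_le_mul_left 3 hfixcard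
    _ ≤ L.relIndex C * C.relIndex M := by rw [mul_comm 3]; exact Nat.mul_le_mul_left _ hidx

/-- At most a third of the points are fixed. -/
theorem three_mul_fixed_le [Group.IsSolvable G] (H : Subgroup G) (hH : H ≠ ⊤) (x : G)
    {p : ℕ} (hp2 : Odd p) (hxp : x ^ p = 1) (hgen : Subgroup.normalClosure ({x} : Set G) = ⊤) :
    3 * Nat.card {c : G ⧸ H // x • c = c} ≤ Nat.card (G ⧸ H) := by
  classical
  obtain h | ⟨H', hH', hle⟩ := eq_top_or_exists_le_coatom H
  · exact absurd h hH
  have key : 3 * Nat.card {c : G ⧸ H' // x • c = c} ≤ Nat.card (G ⧸ H') := by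
    rcases isEmpty_or_nonempty {c : G ⧸ H' // x • c = c} with he | ⟨⟨c, hc⟩⟩
    · simp
    induction c using QuotientGroup.induction_on with
    | H g =>
      rw [MulAction.Quotient.smul_coe, smul_eq_mul, QuotientGroup.eq] at hc
      have hy : g⁻¹ * x * g ∈ H' := by
        have := inv_mem hc
        rwa [show ((x * g)⁻¹ * g)⁻¹ = g⁻¹ * x * g by group] at this
      have hy' : g⁻¹ * x * g⁻¹⁻¹ = g⁻¹ * x * g := by rw [inv_inv]
      have hgen' : Subgroup.normalClosure ({g⁻¹ * x * g} : Set G) = ⊤ := by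
        rw [eq_top_iff, ← hgen]
        refine Subgroup.normalClosure_le_normal (Set.singleton_subset_iff.mpr ?_)
        have := (Subgroup.normalClosure_normal (s := ({g⁻¹ * x * g} : Set G))).conj_mem _
          (Subgroup.subset_normalClosure (Set.mem_singleton _)) g
        rwa [show g * (g⁻¹ * x * g) * g⁻¹ = x by group] at this
      have h := three_mul_fixed_le_coatom H' hH' _ hy hp2
        (by rw [← hy', conj_pow, hxp, mul_one, mul_inv_cancel]) hgen'
      rwa [Nat.card_congr (Equiv.subtypeEquiv (MulAction.toPerm g⁻¹)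
        (p := fun c : G ⧸ H' => x • c = c) (q := fun c : G ⧸ H' => (g⁻¹ * x * g) • c = c) (fun c => by
          rw [MulAction.toPerm_apply, smul_smul, mul_assoc, mul_inv_cancel, mul_one, mul_smul]
          exact (MulAction.injective g⁻¹).eq_iff.symm))]
  let e := Subgroup.quotientEquivProdOfLE hle
  have hinj : Nat.card {c : G ⧸ H // x • c = c} ≤
      Nat.card ({c : G ⧸ H' // x • c = c} × (↥H' ⧸ H.subgroupOf H')) := by
    refine Nat.card_le_card_of_injective (fun c => (⟨(e c.1).1, ?_⟩, (e c.1).2)) ?_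
    · obtain ⟨c, hc⟩ := c
      induction c using QuotientGroup.induction_on with
      | H g =>
        change x • (g : G ⧸ H') = (g : G ⧸ H')
        rw [MulAction.Quotient.smul_coe, smul_eq_mul, QuotientGroup.eq] at hc ⊢
        exact hle hc
    · intro a b h
      simp only [Prod.mk.injEq, Subtype.mk.injEq] at h
      exact Subtype.ext (e.injective (Prod.ext h.1 h.2))
  rw [Nat.card_congr e, Nat.card_prod]
  rw [Nat.card_prod] at hinj
  calc 3 * Nat.card {c : G ⧸ H // x • c = c}
      ≤ 3 * (Nat.card {c : G ⧸ H' // x • c = c} * Nat.card (↥H' ⧸ H.subgroupOf H')) :=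
        Nat.mul_le_mul_left 3 hinj
    _ ≤ _ := by rw [← mul_assoc]; exact Nat.mul_le_mul_right _ key

end CfsgLib.FixBound
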