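import Cfsg.Agent.Lib.FixBound.Decomp
import Cfsg.Agent.Lib.FixBound.Perm

/-!
The fixed space when a normal subgroup acts by commuting operators, not all scalar.
-/

set_option autoImplicit false

namespace CfsgLib.FixBound

variable {K V : Type*} [Field K] [IsAlgClosed K] [AddCommGroup V] [Module K V] [FiniteDimensional K V]

/-- Commuting operators have a common eigenvector. -/
theorem exists_common_eigenvector [Nontrivial V] {ι : Type*} (f : ι → Module.End K V)
    (hf : ∀ i j, Commute (f i) (f j)) : ∃ χ : ι → K, ∃ v : V, v ≠ 0 ∧ ∀ i, f i v = χ i • v := by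
  classical
  obtain ⟨S, ⟨hSne, hSinv⟩, hmin⟩ := (IsWellFounded.wf (r := ((· < ·) : Submodule K V → _ → Prop))).has_min
    {S : Submodule K V | S ≠ ⊥ ∧ ∀ i, ∀ v ∈ S, f i v ∈ S} ⟨⊤, top_ne_bot, fun _ _ _ => Submodule.mem_top⟩
  have hscal : ∀ i, ∃ a : K, ∀ v ∈ S, f i v = a • v := by
    intro i
    haveI : Nontrivial S := Submodule.nontrivial_iff_ne_bot.mpr hSne
    obtain ⟨a, ha⟩ := Module.End.exists_eigenvalue ((f i).restrict (hSinv i) : Module.End K S)
    obtain ⟨w, hw⟩ := ha.exists_hasEigenvector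
    refine ⟨a, ?_⟩
    set T : Submodule K V := S ⊓ Module.End.eigenspace (f i) a with hT
    have hTne : T ≠ ⊥ := by
      rw [Submodule.ne_bot_iff]
      refine ⟨(w : V), ⟨w.2, Module.End.mem_eigenspace_iff.mpr ?_⟩, fun h => hw.2 (Subtype.ext h)⟩
      simpa using congrArg Subtype.val hw.apply_eq_smul
    have hTinv : ∀ j, ∀ v ∈ T, f j v ∈ T := by
      intro j v hv
      refine ⟨hSinv j v hv.1, Module.End.mem_eigenspace_iff.mpr ?_⟩
      have := LinearMap.congr_fun (hf i j).eq v
      rw [Module.End.mul_apply, Module.End.mul_apply, Module.End.mem_eigenspace_iff.mp hv.2,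
        map_smul] at this
      exact this
    have hle : S ≤ Module.End.eigenspace (f i) a := by
      have hTS : T ≤ S := inf_le_left
      rcases hTS.eq_or_lt with e | e
      · exact e.ge.trans inf_le_right
      · exact absurd e (hmin T ⟨hTne, hTinv⟩)
    exact fun v hv => Module.End.mem_eigenspace_iff.mp (hle hv)
  choose χ hχ using hscal
  obtain ⟨v, hv, hv0⟩ := S.ne_bot_iff.mp hSne
  exact ⟨χ, v, hv0, fun i => hχ i v hv⟩

variable {G : Type*} [Group G] [Finite G]

/-- The joint eigenspace. -/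
def jointSpace (ρ : Representation K G V) (N : Subgroup G) (χ : N → K) : Submodule K V :=
  ⨅ n : N, Module.End.eigenspace (ρ (n : G)) (χ n)

omit [IsAlgClosed K] [FiniteDimensional K V] [Finite G] in
theorem mem_jointSpace {ρ : Representation K G V} {N : Subgroup G} {χ : N → K} {v : V} :
    v ∈ jointSpace ρ N χ ↔ ∀ n : N, ρ (n : G) v = χ n • v := by
  simp [jointSpace]

/-- The bound when a normal subgroup is represented by commuting operators that are not all scalar. -/
theorem two_mul_fix_lt_of_commuting [Group.IsSolvable G] (ρ : Representation K G V)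
    (hirr : ∀ U : Submodule K V, (∀ g, ∀ v ∈ U, ρ g v ∈ U) → U = ⊥ ∨ U = ⊤)
    {x : G} {p : ℕ} (hp : p.Prime) (hp5 : 5 ≤ p) (hxp : x ^ p = 1)
    (hgen : Subgroup.normalClosure ({x} : Set G) = ⊤)
    (N : Subgroup G) [hNn : N.Normal] (hcomm : ∀ a ∈ N, ∀ b ∈ N, Commute (ρ a) (ρ b))
    (hns : ¬ ∀ n ∈ N, ∃ a : K, ρ n = a • 1) :
    2 * Module.finrank K (LinearMap.ker (ρ x - 1)) < Module.finrank K V := by
  classical
  haveI : Nontrivial V := by
    rcases subsingleton_or_nontrivial V with h | h
    · exact absurd (fun n _ => ⟨1, LinearMap.ext fun v => Subsingleton.elim _ _⟩) hns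
    · exact h
  haveI hcm : ∀ n m : N, Commute (ρ (n : G)) (ρ (m : G)) := fun n m => hcomm _ n.2 _ m.2
  -- the finite set of weights
  have hindep : iSupIndep (jointSpace ρ N) := (Module.End.independent_iInf_maxGenEigenspace_of_forall_mapsTo
    (fun n : N => ρ (n : G)) (fun i j φ => Module.End.mapsTo_maxGenEigenspace_of_comm (hcm j i) φ)).mono
      (fun χ => iInf_mono fun n => Module.End.eigenspace_le_maxGenEigenspace)
  let X := {χ : N → K // jointSpace ρ N χ ≠ ⊥}
  haveI : Finite X := (WellFoundedGT.finite_ne_bot_of_iSupIndep hindep).to_subtype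
  haveI : Fintype X := Fintype.ofFinite X
  let U : X → Submodule K V := fun χ => jointSpace ρ N χ.1
  have hUi : iSupIndep U := hindep.comp Subtype.val_injective
  -- the action on the weights
  let cj : G → N → N := fun g n => ⟨g⁻¹ * n * g, by simpa using hNn.conj_mem (n : G) n.2 g⁻¹⟩
  have hmap : ∀ (g : G) (χ : N → K), ∀ v ∈ jointSpace ρ N χ, ρ g v ∈ jointSpace ρ N (fun n => χ (cj g n)) := by
    intro g χ v hv
    rw [mem_jointSpace] at hv ⊢
    intro n
    calc ρ (n : G) (ρ g v) = ρ g (ρ (g⁻¹ * n * g) v) := by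
          rw [← Module.End.mul_apply, ← Module.End.mul_apply, ← map_mul, ← map_mul]
          congr 2; group
      _ = _ := by rw [hv (cj g n), map_smul]
  have hinj : ∀ g : G, Function.Injective (ρ g) := fun g a b h => by
    have := congrArg (ρ g⁻¹) h
    rwa [← Module.End.mul_apply, ← Module.End.mul_apply, ← map_mul, inv_mul_cancel, map_one] at this
  have hne : ∀ (g : G) (χ : X), jointSpace ρ N (fun n => χ.1 (cj g n)) ≠ ⊥ := by
    intro g χ
    obtain ⟨v, hv, hv0⟩ := (Submodule.ne_bot_iff _).mp χ.2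
    exact (Submodule.ne_bot_iff _).mpr ⟨_, hmap g χ.1 v hv, fun h => hv0 (hinj g (by rw [h, map_zero]))⟩
  letI : MulAction G X :=
    { smul := fun g χ => ⟨fun n => χ.1 (cj g n), hne g χ⟩
      one_smul := fun χ => Subtype.ext (funext fun n => congrArg χ.1 (Subtype.ext (by simp [cj])))
      mul_smul := fun g h χ => Subtype.ext (funext fun n => congrArg χ.1 (Subtype.ext (by simp [cj, mul_assoc]))) }
  have hU : ∀ (g : G) (χ : X), ∀ v ∈ U χ, ρ g v ∈ U (g • χ) := fun g χ v hv => hmap g χ.1 v hv
  obtain ⟨χ0, v0, hv0, hχ0⟩ := exists_common_eigenvector (fun n : N => ρ (n : G)) hcm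
  have hne0 : jointSpace ρ N χ0 ≠ ⊥ := (Submodule.ne_bot_iff _).mpr ⟨v0, mem_jointSpace.mpr hχ0, hv0⟩
  let c0 : X := ⟨χ0, hne0⟩
  -- transitivity
  have horb : ⨆ i : MulAction.orbit G c0, U i.1 = ⊤ := by
    refine (hirr _ fun g v hv => ?_).resolve_left ?_
    · refine Submodule.iSup_induction _ (motive := fun v => ρ g v ∈ ⨆ i : MulAction.orbit G c0, U i.1) hv ?_ ?_ ?_
      · intro i w hw
        exact Submodule.mem_iSup_of_mem
          (⟨g • i.1, MulAction.mem_orbit_of_mem_orbit g i.2⟩ : MulAction.orbit G c0) (hU g i.1 w hw)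
      · rw [map_zero]; exact zero_mem _
      · intro a b ha hb; rw [map_add]; exact add_mem ha hb
    · exact fun h => hne0 (eq_bot_iff.mpr ((le_iSup (fun i : MulAction.orbit G c0 => U i.1)
        ⟨c0, MulAction.mem_orbit_self c0⟩).trans h.le))
  have htrans : ∀ c : X, c ∈ MulAction.orbit G c0 := by
    intro c
    by_contra hc
    have hd := hUi c
    have : (⊤ : Submodule K V) ≤ ⨆ (j) (_ : j ≠ c), U j := horb ▸ iSup_le fun i =>
      le_iSup₂_of_le i.1 (fun e => hc (e ▸ i.2)) le_rfl
    rw [top_le_iff.mp this, disjoint_top] at hd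
    exact c.2 hd
  have hsup : ⨆ i, U i = ⊤ := top_le_iff.mp (horb ▸ iSup_le fun i => le_iSup U i.1)
  -- the stabiliser is proper
  set H := MulAction.stabilizer G c0 with hHdef
  have hHtop : H ≠ ⊤ := by
    intro e
    apply hns
    intro n hn
    refine ⟨χ0 ⟨n, hn⟩, LinearMap.ext fun v => ?_⟩
    have hall : ∀ c : X, c = c0 := fun c => by
      obtain ⟨g, rfl⟩ := htrans c
      exact MulAction.mem_stabilizer_iff.mp (e ▸ Subgroup.mem_top g : g ∈ H)
    have hv : v ∈ U c0 := by
      have : v ∈ ⨆ i, U i := hsup ▸ Submodule.mem_top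
      exact (iSup_le fun i => (hall i ▸ le_rfl : U i ≤ U c0)) this
    rw [LinearMap.smul_apply, Module.End.one_apply]
    exact mem_jointSpace.mp hv ⟨n, hn⟩
  have hquot : G ⧸ H ≃ X :=
    (MulAction.orbitEquivQuotientStabilizer G c0).symm.trans (Equiv.subtypeUnivEquiv htrans)
  have hfix : 3 * Nat.card {c : X // x • c = c} ≤ Nat.card X := by
    have h := three_mul_fixed_le H hHtop x (hp.odd_of_ne_two (by omega)) hxp hgen
    let f : G ⧸ H → X := MulAction.ofQuotientStabilizer G c0
    have hfb : Function.Bijective f := ⟨MulAction.injective_ofQuotientStabilizer G c0, fun c => by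
      obtain ⟨g, hg⟩ := htrans c
      exact ⟨(g : G ⧸ H), hg⟩⟩
    let e := Equiv.ofBijective f hfb
    rwa [Nat.card_congr e, Nat.card_congr (e.subtypeEquiv (p := fun c => x • c = c) (q := fun c : X => x • c = c)
      (fun c => by
        induction c using QuotientGroup.induction_on with
        | H g =>
          change x • (g : G ⧸ H) = (g : G ⧸ H) ↔ x • (g • c0) = g • c0
          rw [MulAction.Quotient.smul_coe, smul_eq_mul, QuotientGroup.eq, hHdef,
            MulAction.mem_stabilizer_iff, mul_smul, inv_smul_eq_iff, mul_smul]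
          exact eq_comm))] at h
  -- dimensions
  obtain ⟨π, hπ, hπ0, hπr, hπa⟩ := exists_proj U hUi hsup
  set d := Module.finrank K (U c0) with hd
  have hdim : ∀ c, Module.finrank K (LinearMap.range (π c)) = d := by
    intro c
    rw [hπr, hd]
    obtain ⟨g, rfl⟩ := htrans c
    have hle : ∀ (g : G) (c : X), Module.finrank K (U c) ≤ Module.finrank K (U (g • c)) := fun g c => by
      refine (Submodule.equivMapOfInjective (ρ g) (hinj g) (U c)).finrank_eq.trans_le
        (Submodule.finrank_mono ?_)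
      rintro _ ⟨v, hv, rfl⟩
      exact hU g c v hv
    refine le_antisymm ?_ (hle g c0)
    have := hle g⁻¹ (g • c0)
    rwa [inv_smul_smul] at this
  have hsum := sum_finrank_range π hπ hπ0
  simp only [hdim, Finset.sum_const, Finset.card_univ, smul_eq_mul] at hsum
  have hiter : ∀ (n : ℕ) (c : X), (fun c : X => x • c)^[n] c = x ^ n • c := by
    intro n c
    induction n with
    | zero => simp
    | succ n ih => rw [Function.iterate_succ_apply', ih, pow_succ', mul_smul]
  obtain ⟨R, hR, hcard⟩ := exists_reps hp (fun c : X => x • c) (fun c => by rw [hiter, hxp, one_smul])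
  have hT : ∀ i v, ρ x (π i v) = π (x • i) (ρ x v) := by
    intro i v
    have hv : v ∈ ⨆ i, U i := hsup ▸ Submodule.mem_top
    refine Submodule.iSup_induction U (motive := fun v => ρ x (π i v) = π (x • i) (ρ x v)) hv ?_ ?_ ?_
    · intro j w hw
      rw [hπa i j w hw, hπa (x • i) (x • j) _ (hU x j w hw)]
      by_cases h : i = j
      · subst h; simp
      · rw [if_neg h, if_neg (fun e => h (MulAction.injective x e)), map_zero]
    · simp
    · intro a b ha hb; simp only [map_add, ha, hb]
  have hker := finrank_ker_le_reps π hπ (ρ x) _ hT R hR d (fun i => (hdim i).le)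
  set k := Nat.card X with hkdef
  set f := Nat.card {c : X // x • c = c}
  have hdpos : 0 < d := by
    rw [hd, Module.finrank_pos_iff]; exact Submodule.nontrivial_iff_ne_bot.mpr hne0
  rw [← Nat.card_eq_fintype_card, ← hkdef] at hsum
  have hk : 0 < k := haveI : Nonempty X := ⟨c0⟩; Nat.card_pos
  rw [← hsum]
  refine lt_of_le_of_lt (Nat.mul_le_mul_left 2 hker) ?_
  rw [← mul_assoc]
  refine Nat.mul_lt_mul_of_pos_right ?_ hdpos
  have h1 : p * (2 * R.card) * 3 < p * k * 3 := by
    have h2 : (p - 1) * (3 * f) ≤ (p - 1) * k := Nat.mul_le_mul_left _ hfix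
    have h3 : 2 * (p - 1) * k + 6 * k < 3 * p * k := by
      obtain ⟨r, rfl⟩ : ∃ r, p = r + 5 := ⟨p - 5, by omega⟩
      rw [show r + 5 - 1 = r + 4 by omega]
      nlinarith
    nlinarith
  exact Nat.lt_of_mul_lt_mul_left (Nat.lt_of_mul_lt_mul_right h1)

end CfsgLib.FixBound
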