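import Cfsg.Agent.Lib.Hall.Carter
import Cfsg.Agent.Lib.Fitting.Basic

/-!
Joins of nilpotent subgroups whose coprime elements commute.
-/

set_option autoImplicit false

namespace CfsgLib.FixBound

variable {G : Type*} [Group G] [Finite G]

/-- A subgroup containing the prime power elements of `H` contains `H`. -/
theorem le_of_primePow_mem (H K : Subgroup G)
    (h : ∀ r : ℕ, r.Prime → ∀ x ∈ H, (∃ j, x ^ r ^ j = 1) → x ∈ K) : H ≤ K := by
  intro x hx
  have : K.subgroupOf H = ⊤ := by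
    rw [← Subgroup.index_eq_one]
    by_contra hne
    obtain ⟨s, hs, hsd⟩ := Nat.exists_prime_and_dvd hne
    haveI := Fact.mk hs
    obtain ⟨Q⟩ : Nonempty (Sylow s H) := inferInstance
    refine Q.not_dvd_index (hsd.trans (Subgroup.index_dvd_of_le fun y hy => ?_))
    obtain ⟨j, hj⟩ := Q.2 ⟨y, hy⟩
    exact h s hs y y.2 ⟨j, by simpa using congrArg (fun z : (Q : Subgroup H) => ((z : H) : G)) hj⟩
  exact Subgroup.subgroupOf_eq_top.mp this hx

/-- The `r`-part of a nilpotent subgroup. -/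
theorem exists_rPart {H : Subgroup G} (hH : Group.IsNilpotent H) (r : ℕ) [Fact r.Prime] :
    ∃ Hr : Subgroup G, IsPGroup r Hr ∧ ∀ x, x ∈ Hr ↔ x ∈ H ∧ ∃ j, x ^ r ^ j = 1 := by
  haveI := hH
  obtain ⟨P⟩ : Nonempty (Sylow r H) := inferInstance
  haveI hPn : (P : Subgroup H).Normal := ((Group.isNilpotent_of_finite_tfae (G := H)).out 0 3 : Group.IsNilpotent H ↔ ∀ (p : ℕ) (_hp : Fact p.Prime) (P : Sylow p H), (P : Subgroup H).Normal).mp hH r inferInstance P
  refine ⟨(P : Subgroup H).map H.subtype, P.2.map _, fun x => ⟨?_, ?_⟩⟩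
  · rintro ⟨y, hy, rfl⟩
    refine ⟨y.2, ?_⟩
    obtain ⟨j, hj⟩ := P.2 ⟨y, hy⟩
    exact ⟨j, by simpa using congrArg (fun z : (P : Subgroup H) => ((z : H) : G)) hj⟩
  · rintro ⟨hx, j, hj⟩
    refine ⟨⟨x, hx⟩, ?_, rfl⟩
    have hp : IsPGroup r (Subgroup.zpowers (⟨x, hx⟩ : H)) := by
      obtain ⟨k, -, hk⟩ := (Nat.dvd_prime_pow (Fact.out : r.Prime)).mp
        (orderOf_dvd_of_pow_eq_one (show (⟨x, hx⟩ : H) ^ r ^ j = 1 from Subtype.ext (by simpa using hj)))
      exact IsPGroup.of_card (n := k) (by rw [Nat.card_zpowers, hk])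
    obtain ⟨Q, hQ⟩ := hp.exists_le_sylow
    obtain ⟨g, hg⟩ := MulAction.exists_smul_eq H P Q
    rw [Sylow.smul_eq_of_normal] at hg
    exact hg ▸ hQ (Subgroup.mem_zpowers _)

/-- Two nilpotent subgroups, one normalising the other, with commuting coprime elements generate a
nilpotent subgroup. -/
theorem isNilpotent_sup_of_coprime_commute {F V : Subgroup G} (hF : Group.IsNilpotent F)
    (hV : Group.IsNilpotent V) (hFV : F ≤ Subgroup.normalizer (V : Set G))
    (h : ∀ r s : ℕ, r.Prime → s.Prime → r ≠ s → ∀ f ∈ F, ∀ v ∈ V, (∃ i, f ^ r ^ i = 1) →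
      (∃ j, v ^ s ^ j = 1) → Commute f v) :
    Group.IsNilpotent ↥(F ⊔ V) := by
  haveI := hF
  haveI := hV
  set X := F ⊔ V
  have hcF : ∀ r s : ℕ, r.Prime → s.Prime → r ≠ s → ∀ a ∈ F, ∀ b ∈ F, (∃ i, a ^ r ^ i = 1) →
      (∃ j, b ^ s ^ j = 1) → Commute a b := by
    intro r s hr hs hrs a ha b hb ⟨i, hi⟩ ⟨j, hj⟩
    haveI := Fact.mk hr
    have := CfsgLib.Hall.commute_of_coprime_orderOf (G := F) (x := ⟨a, ha⟩) (y := ⟨b, hb⟩) (j := i)
      (orderOf_dvd_of_pow_eq_one (Subtype.ext (by simpa using hi)))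
      ((((Nat.coprime_primes hs hr).mpr hrs.symm).pow_left j).coprime_dvd_left
        (orderOf_dvd_of_pow_eq_one (Subtype.ext (by simpa using hj))))
    exact congrArg Subtype.val this
  have hcV : ∀ r s : ℕ, r.Prime → s.Prime → r ≠ s → ∀ a ∈ V, ∀ b ∈ V, (∃ i, a ^ r ^ i = 1) →
      (∃ j, b ^ s ^ j = 1) → Commute a b := by
    intro r s hr hs hrs a ha b hb ⟨i, hi⟩ ⟨j, hj⟩
    haveI := Fact.mk hr
    have := CfsgLib.Hall.commute_of_coprime_orderOf (G := V) (x := ⟨a, ha⟩) (y := ⟨b, hb⟩) (j := i)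
      (orderOf_dvd_of_pow_eq_one (Subtype.ext (by simpa using hi)))
      ((((Nat.coprime_primes hs hr).mpr hrs.symm).pow_left j).coprime_dvd_left
        (orderOf_dvd_of_pow_eq_one (Subtype.ext (by simpa using hj))))
    exact congrArg Subtype.val this
  have key : ∀ r : ℕ, r.Prime → ∀ x, (x ∈ F ∨ x ∈ V) → (∃ j, x ^ r ^ j = 1) →
      ∃ hx : x ∈ X, (⟨x, hx⟩ : X) ∈ Cfsg.fittingSubgroup X := by
    intro r hr x hx hxr
    haveI := Fact.mk hr
    obtain ⟨Fr, hFrp, hFr⟩ := exists_rPart hF r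
    obtain ⟨Vr, hVrp, hVr⟩ := exists_rPart hV r
    have hconjpow : ∀ (g y : G) (j : ℕ), y ^ r ^ j = 1 → (g * y * g⁻¹) ^ r ^ j = 1 := fun g y j e => by
      rw [conj_pow, e, mul_one, mul_inv_cancel]
    have hFrVr : Fr ≤ Subgroup.normalizer (Vr : Set G) := fun g hg =>
      Subgroup.mem_normalizer_fintype fun y hy => by
        obtain ⟨hyV, j, hj⟩ := (hVr y).mp hy
        exact (hVr _).mpr ⟨(Subgroup.mem_normalizer_iff.mp (hFV ((hFr g).mp hg).1) y).mp hyV, j, hconjpow g y j hj⟩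
    have hSp : IsPGroup r (Fr ⊔ Vr : Subgroup G) := hFrp.to_sup_of_normal_right' hVrp hFrVr
    have hSX : Fr ⊔ Vr ≤ X := sup_le (fun y hy => Subgroup.mem_sup_left ((hFr y).mp hy).1)
      (fun y hy => Subgroup.mem_sup_right ((hVr y).mp hy).1)
    have hcent : ∀ g, (∀ y ∈ Fr, Commute g y) → (∀ y ∈ Vr, Commute g y) →
        g ∈ Subgroup.normalizer ((Fr ⊔ Vr : Subgroup G) : Set G) := by
      intro g h1 h2
      have hle : Fr ⊔ Vr ≤ Subgroup.centralizer ({g} : Set G) := sup_le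
        (fun y hy => Subgroup.mem_centralizer_singleton_iff.mpr (h1 y hy).eq.symm)
        (fun y hy => Subgroup.mem_centralizer_singleton_iff.mpr (h2 y hy).eq.symm)
      exact Subgroup.mem_normalizer_fintype fun y hy => by
        rw [← Subgroup.mem_centralizer_singleton_iff.mp (hle hy), mul_inv_cancel_right]; exact hy
    have hnorm : X ≤ Subgroup.normalizer ((Fr ⊔ Vr : Subgroup G) : Set G) := by
      refine sup_le (le_of_primePow_mem F _ fun s hs g hg hgs => ?_) (le_of_primePow_mem V _ fun s hs g hg hgs => ?_)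
      · rcases eq_or_ne s r with rfl | hsr
        · exact Subgroup.le_normalizer (Subgroup.mem_sup_left ((hFr g).mpr ⟨hg, hgs⟩))
        · exact hcent g (fun y hy => hcF s r hs hr hsr g hg y ((hFr y).mp hy).1 hgs ((hFr y).mp hy).2)
            (fun y hy => h s r hs hr hsr g hg y ((hVr y).mp hy).1 hgs ((hVr y).mp hy).2)
      · rcases eq_or_ne s r with rfl | hsr
        · exact Subgroup.le_normalizer (Subgroup.mem_sup_right ((hVr g).mpr ⟨hg, hgs⟩))
        · exact hcent g (fun y hy => (h r s hr hs hsr.symm y ((hFr y).mp hy).1 g hg ((hFr y).mp hy).2 hgs).symm)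
            (fun y hy => hcV s r hs hr hsr g hg y ((hVr y).mp hy).1 hgs ((hVr y).mp hy).2)
    have hn : ((Fr ⊔ Vr).subgroupOf X).Normal := (Subgroup.normal_subgroupOf_iff_le_normalizer hSX).mpr hnorm
    have hnil : Group.IsNilpotent ((Fr ⊔ Vr).subgroupOf X) :=
      (hSp.of_equiv (Subgroup.subgroupOfEquivOfLe hSX).symm).isNilpotent
    have hxS : x ∈ Fr ⊔ Vr := by
      rcases hx with hx | hx
      · exact Subgroup.mem_sup_left ((hFr x).mpr ⟨hx, hxr⟩)
      · exact Subgroup.mem_sup_right ((hVr x).mpr ⟨hx, hxr⟩)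
    exact ⟨hSX hxS, CfsgLib.Fitting.le_fittingSubgroup hn hnil (Subgroup.mem_subgroupOf.mpr hxS)⟩
  have htop : X ≤ (Cfsg.fittingSubgroup X).map X.subtype :=
    sup_le
      (le_of_primePow_mem F _ fun r hr x hx hxr => by
        obtain ⟨hx', h'⟩ := key r hr x (Or.inl hx) hxr; exact ⟨⟨x, hx'⟩, h', rfl⟩)
      (le_of_primePow_mem V _ fun r hr x hx hxr => by
        obtain ⟨hx', h'⟩ := key r hr x (Or.inr hx) hxr; exact ⟨⟨x, hx'⟩, h', rfl⟩)
  have htop2 : Cfsg.fittingSubgroup X = ⊤ := by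
    rw [eq_top_iff]
    intro x _
    obtain ⟨y, hy, e⟩ := htop x.2
    exact Subtype.ext e ▸ hy
  haveI := CfsgLib.Fitting.fittingSubgroup_isNilpotent (G := X)
  exact Group.nilpotent_of_mulEquiv ((MulEquiv.subgroupCongr htop2).trans Subgroup.topEquiv)

end CfsgLib.FixBound
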