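import Cfsg.Agent.Lib.FixBound.Main
import Cfsg.Agent.Lib.FixBound.Nilpotent

/-!
A maximal solvable group generated by two conjugates of a subgroup of order `p ≥ 5`: the coprime
part of its Fitting subgroup centralises every `r`-group it normalises.
-/

set_option autoImplicit false

open scoped commutatorElement Pointwise

namespace CfsgLib.FixBound

variable {G : Type*} [Group G] [Finite G]

/-- The cocycle argument: complements to a module are conjugate. -/
theorem exists_coboundary {A W : Type*} [Group A] [AddCommGroup W] {k : Type*} [Field k] [Module k W]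
    (ρ : Representation k A W) (c : A → W) (hc : ∀ g h, c (g * h) = c g + ρ g (c h))
    (F : Subgroup A) [F.Normal] [Fintype F] (hF : (Fintype.card F : k) ≠ 0)
    (hfix : ∀ v : W, (∀ f ∈ F, ρ f v = v) → v = 0) : ∃ w : W, ∀ g, c g = w - ρ g w := by
  set n : k := (Fintype.card F : k)
  set S := ∑ f : F, c f with hS
  have hFc : ∀ h ∈ F, c h = n⁻¹ • S - ρ h (n⁻¹ • S) := by
    intro h hh
    have e : S = n • c h + ρ h S := by
      calc S = ∑ f : F, c ((⟨h, hh⟩ * f : F) : A) :=
            (Fintype.sum_equiv (Equiv.mulLeft (⟨h, hh⟩ : F)) _ _ (fun _ => rfl)).symm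
        _ = ∑ f : F, (c h + ρ h (c f)) := Finset.sum_congr rfl fun f _ => hc h f
        _ = _ := by rw [Finset.sum_add_distrib, Finset.sum_const, Finset.card_univ, hS, map_sum,
              Nat.cast_smul_eq_nsmul]
    rw [map_smul, ← smul_sub]
    rw [← eq_sub_of_add_eq e.symm]
    rw [smul_smul, inv_mul_cancel₀ hF, one_smul]
  refine ⟨n⁻¹ • S, fun g => ?_⟩
  set w := n⁻¹ • S
  set c' : A → W := fun g => c g - (w - ρ g w) with hc'
  have hcc : ∀ g h, c' (g * h) = c' g + ρ g (c' h) := by
    intro g h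
    simp only [hc', hc, map_sub, map_mul, Module.End.mul_apply]
    abel
  have h0 : ∀ f ∈ F, c' f = 0 := fun f hf => sub_eq_zero.mpr (hFc f hf)
  have hzero : c' g = 0 := by
    refine hfix _ fun f hf => ?_
    have h1 := hcc f g
    have hm : g⁻¹ * f * g ∈ F := by simpa using (inferInstance : F.Normal).conj_mem f hf g⁻¹
    have h2 := hcc g (g⁻¹ * f * g)
    rw [h0 _ hm, map_zero, add_zero, show g * (g⁻¹ * f * g) = f * g by group] at h2
    rw [h0 f hf, zero_add] at h1
    rw [← h1, h2]
  exact sub_eq_zero.mp hzero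

variable {p : ℕ} [Fact p.Prime]

/-- Not every vector gives rise to a cocycle vanishing on a generator. -/
theorem exists_no_cocycle {A : Type*} [Group A] [Finite A] [Group.IsSolvable A] (hp : 5 ≤ p)
    {r : ℕ} [hr : Fact r.Prime] {W : Type*} [AddCommGroup W] [Module (ZMod r) W] [Finite W] [Nontrivial W]
    (φ : A → (W →+ W)) (h1 : ∀ w, φ 1 w = w) (hmul : ∀ g h w, φ (g * h) w = φ g (φ h w))
    (hirr : ∀ U : AddSubgroup W, (∀ g, ∀ w ∈ U, φ g w ∈ U) → U = ⊥ ∨ U = ⊤)
    (F0 : Subgroup A) [F0.Normal] (hF0c : (Nat.card F0).Coprime r) {f : A} (hfF0 : f ∈ F0)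
    (hf : ∃ w, φ f w ≠ w) (x a : A) (hxp : x ^ p = 1) (hgen : Subgroup.normalClosure ({x} : Set A) = ⊤) :
    ∃ t : W, ¬ ∃ c : A → W, (∀ g h, c (g * h) = c g + φ g (c h)) ∧ c x = 0 ∧
      c (a * x * a⁻¹) = t - φ (a * x * a⁻¹) t := by
  classical
  haveI : FiniteDimensional (ZMod r) W := Module.Finite.of_finite
  haveI : Fintype F0 := Fintype.ofFinite F0
  let ρ : Representation (ZMod r) A W :=
    { toFun := fun g => (φ g).toZModLinearMap r
      map_one' := LinearMap.ext fun w => h1 w
      map_mul' := fun g h => LinearMap.ext fun w => hmul g h w }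
  have hρ : ∀ g w, ρ g w = φ g w := fun _ _ => rfl
  have hirr' : ∀ U : Submodule (ZMod r) W, (∀ g, ∀ w ∈ U, ρ g w ∈ U) → U = ⊥ ∨ U = ⊤ := by
    intro U hU
    rcases hirr U.toAddSubgroup hU with e | e
    · exact Or.inl (Submodule.toAddSubgroup_injective (by rw [e]; rfl))
    · exact Or.inr (Submodule.toAddSubgroup_injective (by rw [e]; rfl))
  obtain ⟨w1, hw1⟩ := hf
  have hfix : ∀ w : W, (∀ g ∈ F0, ρ g w = w) → w = 0 := by
    let U : Submodule (ZMod r) W := ⨅ g : F0, LinearMap.ker (ρ (g : A) - 1)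
    have hU : ∀ w, w ∈ U ↔ ∀ g ∈ F0, ρ g w = w := fun w => by simp [U, sub_eq_zero]
    have hinv : ∀ g, ∀ w ∈ U, ρ g w ∈ U := by
      intro g w hw
      rw [hU] at hw ⊢
      intro z hz
      calc ρ z (ρ g w) = ρ g (ρ (g⁻¹ * z * g) w) := by
            rw [← Module.End.mul_apply, ← Module.End.mul_apply, ← map_mul, ← map_mul]
            congr 2; group
        _ = ρ g w := by rw [hw _ (by simpa using (inferInstance : F0.Normal).conj_mem z hz g⁻¹)]
    intro w hw
    rcases hirr' U hinv with e | e
    · exact (Submodule.mem_bot _).mp (e ▸ (hU w).mpr hw)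
    · exact absurd ((hU w1).mp (e ▸ Submodule.mem_top) f hfF0) hw1
  have hF0k : (Fintype.card F0 : ZMod r) ≠ 0 := by
    rw [Ne, ZMod.natCast_eq_zero_iff, ← Nat.card_eq_fintype_card]
    exact (Nat.Prime.coprime_iff_not_dvd hr.out).mp hF0c.symm
  set y := a * x * a⁻¹
  set C1 := LinearMap.ker (ρ x - 1)
  set C2 := LinearMap.ker (ρ y - 1)
  have hbound : C1 ⊔ C2 ≠ ⊤ := by
    let ρb : Representation (ZMod r) (A ⧸ MonoidHom.ker ρ) W := QuotientGroup.lift (MonoidHom.ker ρ) ρ le_rfl
    have hb : ∀ g : A, ρb (QuotientGroup.mk' _ g) = ρ g := fun g => rfl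
    haveI : Group.IsSolvable (A ⧸ MonoidHom.ker ρ) :=
      solvable_of_surjective (QuotientGroup.mk'_surjective (MonoidHom.ker ρ))
    have hgenb : Subgroup.normalClosure ({QuotientGroup.mk' (MonoidHom.ker ρ) x} : Set (A ⧸ MonoidHom.ker ρ)) = ⊤ := by
      rw [← Set.image_singleton, ← Subgroup.map_normalClosure _ _ (QuotientGroup.mk'_surjective _), hgen,
        Subgroup.map_top_of_surjective _ (QuotientGroup.mk'_surjective _)]
    have hxb : QuotientGroup.mk' (MonoidHom.ker ρ) x ≠ 1 := by
      intro e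
      rw [QuotientGroup.mk'_apply, QuotientGroup.eq_one_iff] at e
      have hall : (⊤ : Subgroup A) ≤ MonoidHom.ker ρ :=
        hgen ▸ Subgroup.normalClosure_le_normal (Set.singleton_subset_iff.mpr e)
      have h := LinearMap.congr_fun (MonoidHom.mem_ker.mp (hall (Subgroup.mem_top f))) w1
      exact hw1 h
    have h := two_mul_fix_lt ρb (fun U hU => hirr' U fun g w hw => hb g ▸ hU (QuotientGroup.mk' _ g) w hw)
      (by
        intro g h e
        obtain ⟨g, rfl⟩ := QuotientGroup.mk'_surjective _ g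
        obtain ⟨h, rfl⟩ := QuotientGroup.mk'_surjective _ h
        rw [hb, hb] at e
        rw [QuotientGroup.mk'_apply, QuotientGroup.mk'_apply, QuotientGroup.eq, MonoidHom.mem_ker, map_mul, ← e,
          ← map_mul, inv_mul_cancel, map_one])
      (Fact.out : p.Prime) hp (by rw [← map_pow, hxp, map_one]) hxb hgenb
    rw [hb] at h
    have h2 : Module.finrank (ZMod r) C2 ≤ Module.finrank (ZMod r) C1 := by
      refine LinearMap.finrank_le_finrank_of_injective
        (f := LinearMap.codRestrict C1 ((ρ a⁻¹).comp C2.subtype) (fun w => ?_)) (fun u w e => ?_)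
      · rw [LinearMap.mem_ker, LinearMap.sub_apply, sub_eq_zero]
        have hw := w.2
        rw [LinearMap.mem_ker, LinearMap.sub_apply, sub_eq_zero, Module.End.one_apply] at hw
        rw [Module.End.one_apply, LinearMap.comp_apply, Submodule.subtype_apply]
        conv_rhs => rw [← hw]
        rw [← Module.End.mul_apply, ← Module.End.mul_apply, ← map_mul, ← map_mul]
        congr 2
        simp [y, mul_assoc]
      · have e' := congrArg (fun z : C1 => ρ a (z : W)) e
        simp only [LinearMap.codRestrict_apply, LinearMap.comp_apply, Submodule.subtype_apply,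
          ← Module.End.mul_apply, ← map_mul, mul_inv_cancel, map_one, Module.End.one_apply] at e'
        exact Subtype.ext e'
    intro e
    have h3 := Submodule.finrank_add_le_finrank_add_finrank C1 C2
    rw [e, finrank_top] at h3
    change 2 * Module.finrank (ZMod r) C1 < _ at h
    omega
  by_contra hcon
  push_neg at hcon
  apply hbound
  rw [eq_top_iff]
  intro t _
  obtain ⟨c, hc, hcx, hcy⟩ := hcon t
  obtain ⟨w0, hw0⟩ := exists_coboundary ρ c (fun g h => by rw [hρ]; exact hc g h) F0 hF0k hfix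
  have g1 : w0 ∈ C1 := by
    have := hcx.symm.trans (hw0 x)
    rw [LinearMap.mem_ker, LinearMap.sub_apply, Module.End.one_apply, ← neg_sub, ← this, neg_zero]
  have g2 : t - w0 ∈ C2 := by
    have := hcy.symm.trans (hw0 y)
    rw [← hρ] at this
    rw [LinearMap.mem_ker, LinearMap.sub_apply, Module.End.one_apply, map_sub,
      show ρ y t - ρ y w0 - (t - w0) = (w0 - ρ y w0) - (t - ρ y t) by abel, ← this, sub_self]
  rw [show t = w0 + (t - w0) by abel]
  exact Submodule.add_mem_sup g1 g2

/-- An element of the normaliser fixes the subgroup under conjugation. -/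
theorem map_conj_of_mem {H : Subgroup G} {g : G} (hg : g ∈ Subgroup.normalizer (H : Set G)) :
    H.map (MulAut.conj g).toMonoidHom = H := by
  refine Subgroup.eq_of_le_of_card_ge ?_ (by rw [Subgroup.card_map_of_injective (MulAut.conj g).injective])
  rintro _ ⟨z, hz, rfl⟩
  exact (Subgroup.mem_normalizer_iff.mp hg z).mp hz

/-- A generator of a group of prime order and its conjugate generate the join. -/
theorem closure_pair_eq {P : Subgroup G} {x : G} (hx : P = Subgroup.zpowers x) (b : G) :
    P ⊔ P.map (MulAut.conj b).toMonoidHom = Subgroup.closure {x, b * x * b⁻¹} := by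
  rw [hx, MonoidHom.map_zpowers, Subgroup.zpowers_eq_closure, Subgroup.zpowers_eq_closure,
    ← Subgroup.closure_union]
  rfl

set_option maxHeartbeats 1000000 in
/-- The coprime part of the Fitting subgroup centralises `r`-groups. -/
theorem commute_of_maximal (hp : 5 ≤ p) (P A : Subgroup G) (hP : Nat.card P = p)
    (hAs : Group.IsSolvable A) {a : G} (haA : a ∈ A) (hAeq : A = P ⊔ P.map (MulAut.conj a).toMonoidHom)
    (hmax : ∀ B : Subgroup G, A ≤ B → Group.IsSolvable ↥B →
      (∃ b ∈ B, B = P ⊔ P.map (MulAut.conj b).toMonoidHom) → B = A) {r : ℕ} [hr : Fact r.Prime] :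
    ∀ (n : ℕ) (V : Subgroup G), Nat.card V ≤ n → IsPGroup r V → A ≤ Subgroup.normalizer (V : Set G) →
      ∀ f : G, f ∈ (Cfsg.fittingSubgroup A).map A.subtype → (orderOf f).Coprime r → ∀ v ∈ V, Commute f v := by
  classical
  intro n
  induction n with
  | zero => intro V hn; exact absurd hn (by have := Nat.card_pos (α := V); omega)
  | succ n ih =>
    intro V hn hVr hAV f hfF hfr v hv
    haveI : IsCyclic P := isCyclic_of_prime_card hP
    obtain ⟨⟨x, hxP⟩, hgenx⟩ := IsCyclic.exists_generator (α := P)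
    have hPx : P = Subgroup.zpowers x := by
      refine le_antisymm (fun g hg => ?_) (Subgroup.zpowers_le.mpr hxP)
      obtain ⟨m, hm⟩ := hgenx ⟨g, hg⟩
      exact ⟨m, by simpa using congrArg Subtype.val hm⟩
    have hxp : x ^ p = 1 := by
      have h : (⟨x, hxP⟩ : P) ^ p = 1 := hP ▸ pow_card_eq_one'
      simpa using congrArg Subtype.val h
    have hfA : f ∈ A := Subgroup.map_subtype_le _ hfF
    have hAeq' : A = Subgroup.closure {x, a * x * a⁻¹} := hAeq.trans (closure_pair_eq hPx a)
    have hxA : x ∈ A := hAeq'.ge (Subgroup.subset_closure (Set.mem_insert _ _))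
    set y := a * x * a⁻¹ with hy
    have hyA : y ∈ A := hAeq'.ge (Subgroup.subset_closure (Set.mem_insert_of_mem _ rfl))
    -- the maximal invariant subgroups
    let Q : Subgroup G → Prop := fun M =>
      M ≤ V ∧ M ≠ V ∧ A ≤ Subgroup.normalizer (M : Set G) ∧ V ≤ Subgroup.normalizer (M : Set G)
    have hsmall : ∀ M, Q M → ∀ m ∈ M, Commute f m := by
      intro M hM
      refine ih M ?_ (hVr.to_le hM.1) hM.2.2.1 f hfF hfr
      have := Set.ncard_lt_ncard (SetLike.coe_ssubset_coe.mpr (lt_of_le_of_ne hM.1 hM.2.1)) (Set.toFinite _)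
      rw [← Nat.card_coe_set_eq, ← Nat.card_coe_set_eq] at this
      exact Nat.lt_succ_iff.mp (lt_of_lt_of_le this hn)
    by_cases hV1 : V = ⊥
    · rw [hV1, Subgroup.mem_bot] at hv; rw [hv]; exact Commute.one_right f
    have hQbot : Q ⊥ := ⟨bot_le, Ne.symm hV1,
      fun g _ => Subgroup.mem_normalizer_fintype fun z hz => by simp [Subgroup.mem_bot.mp hz],
      fun g _ => Subgroup.mem_normalizer_fintype fun z hz => by simp [Subgroup.mem_bot.mp hz]⟩
    obtain ⟨M, hM, hMmax⟩ := (Set.toFinite {M | Q M}).exists_maximal ⟨⊥, hQbot⟩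
    -- two maximal ones generate
    by_cases huniq : ∃ M1, Q M1 ∧ ¬ M1 ≤ M
    · obtain ⟨M1, hM1, hnle⟩ := huniq
      have hsup : M ⊔ M1 = V := by
        by_contra hne
        have : Q (M ⊔ M1) := by
          refine ⟨sup_le hM.1 hM1.1, hne, ?_, ?_⟩
          · exact (le_inf hM.2.2.1 hM1.2.2.1).trans (fun g hg => by
              rw [Subgroup.mem_normalizer_iff]
              intro z
              have e : (M ⊔ M1).map (MulAut.conj g).toMonoidHom = M ⊔ M1 := by
                rw [Subgroup.map_sup, map_conj_of_mem hg.1, map_conj_of_mem hg.2]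
              conv_rhs => rw [← e]
              exact (Subgroup.mem_map_iff_mem (MulAut.conj g).injective).symm)
          · exact (le_inf hM.2.2.2 hM1.2.2.2).trans (fun g hg => by
              rw [Subgroup.mem_normalizer_iff]
              intro z
              have e : (M ⊔ M1).map (MulAut.conj g).toMonoidHom = M ⊔ M1 := by
                rw [Subgroup.map_sup, map_conj_of_mem hg.1, map_conj_of_mem hg.2]
              conv_rhs => rw [← e]
              exact (Subgroup.mem_map_iff_mem (MulAut.conj g).injective).symm)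
        exact hnle (le_sup_right.trans (hMmax this le_sup_left))
      have hle : V ≤ Subgroup.centralizer ({f} : Set G) := hsup ▸ sup_le
        (fun m hm => Subgroup.mem_centralizer_singleton_iff.mpr (hsmall M hM m hm).eq.symm)
        (fun m hm => Subgroup.mem_centralizer_singleton_iff.mpr (hsmall M1 hM1 m hm).eq.symm)
      exact (Subgroup.mem_centralizer_singleton_iff.mp (hle hv)).symm
    push_neg at huniq
    by_contra hcomm
    obtain ⟨hMV, hMne, hAM, hVM⟩ := hM
    -- the module
    set MV := M.subgroupOf V with hMV'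
    haveI : MV.Normal := (Subgroup.normal_subgroupOf_iff_le_normalizer hMV).mpr hVM
    haveI hWnt : Nontrivial (V ⧸ MV) := (QuotientGroup.nontrivial_iff (N := MV)).mpr (fun e =>
      hMne (le_antisymm hMV (Subgroup.subgroupOf_eq_top.mp e)))
    let cjV : A → V →* V := fun g =>
      { toFun := fun w => ⟨(g : G) * w * (g : G)⁻¹, (Subgroup.mem_normalizer_iff.mp (hAV g.2) w).mp w.2⟩
        map_one' := Subtype.ext (by simp)
        map_mul' := fun u w => Subtype.ext (by simp [mul_assoc]) }
    let cjW : A → (V ⧸ MV) →* (V ⧸ MV) := fun g => QuotientGroup.map MV MV (cjV g) (fun w hw => by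
      rw [Subgroup.mem_comap, Subgroup.mem_subgroupOf]
      exact (Subgroup.mem_normalizer_iff.mp (hAM g.2) w).mp (Subgroup.mem_subgroupOf.mp hw))
    -- invariant subgroups of the module
    have hW : ∀ S : Subgroup (V ⧸ MV), S.Normal → (∀ g : A, S.map (cjW g) ≤ S) → S = ⊥ ∨ S = ⊤ := by
      intro S hSn hS
      set U := (S.comap (QuotientGroup.mk' MV)).map V.subtype with hU
      have hUV : U ≤ V := Subgroup.map_subtype_le _
      by_cases hUeq : U = V
      · right
        rw [eq_top_iff]
        rintro w -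
        obtain ⟨w, rfl⟩ := QuotientGroup.mk'_surjective MV w
        obtain ⟨w', hw', e⟩ := hUeq.ge w.2
        exact Subtype.ext e ▸ hw'
      left
      have hUA : A ≤ Subgroup.normalizer (U : Set G) := fun g hg =>
        Subgroup.mem_normalizer_fintype fun u hu => by
          obtain ⟨u', hu', rfl⟩ := hu
          exact ⟨cjV ⟨g, hg⟩ u', hS ⟨g, hg⟩ ⟨_, hu', rfl⟩, rfl⟩
      have hUn : V ≤ Subgroup.normalizer (U : Set G) := fun g hg =>
        Subgroup.mem_normalizer_fintype fun u hu => by
          obtain ⟨u', hu', rfl⟩ := hu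
          exact ⟨⟨g, hg⟩ * u' * ⟨g, hg⟩⁻¹,
            (hSn.comap (QuotientGroup.mk' MV)).conj_mem u' hu' _, rfl⟩
      rw [eq_bot_iff]
      intro w hw
      obtain ⟨w, rfl⟩ := QuotientGroup.mk'_surjective MV w
      rw [Subgroup.mem_bot, QuotientGroup.mk'_apply, QuotientGroup.eq_one_iff, Subgroup.mem_subgroupOf]
      exact huniq U ⟨hUV, hUeq, hUA, hUn⟩ ⟨w, hw, rfl⟩
    haveI : Group.IsNilpotent (V ⧸ MV) := (hVr.to_quotient MV).isNilpotent
    have hWc : commutator (V ⧸ MV) = ⊥ := by
      rcases hW (commutator (V ⧸ MV)) inferInstance (fun g => by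
        rw [commutator_def, Subgroup.map_commutator]
        exact Subgroup.commutator_mono le_top le_top) with e | e
      · exact e
      · exact absurd e (IsSolvable.commutator_lt_top_of_nontrivial (V ⧸ MV)).ne
    have hWcomm : ∀ u w : V ⧸ MV, u * w = w * u := fun u w =>
      commutatorElement_eq_one_iff_mul_comm.mp (Subgroup.mem_bot.mp
        (hWc ▸ (commutator_def (V ⧸ MV)).symm ▸ Subgroup.commutator_mem_commutator trivial trivial))
    letI : CommGroup (V ⧸ MV) := { (inferInstance : Group (V ⧸ MV)) with mul_comm := hWcomm }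
    have hexp : ∀ w : V ⧸ MV, w ^ r = 1 := by
      rcases hW (powMonoidHom r : (V ⧸ MV) →* (V ⧸ MV)).range inferInstance (fun g => by
        rintro _ ⟨_, ⟨w, rfl⟩, rfl⟩
        exact ⟨cjW g w, (map_pow (cjW g) w r).symm⟩) with e | e
      · intro w; exact Subgroup.mem_bot.mp (e ▸ (⟨w, rfl⟩ : w ^ r ∈ (powMonoidHom r : (V ⧸ MV) →* (V ⧸ MV)).range))
      · exfalso
        obtain ⟨k, hk⟩ := IsPGroup.iff_card.mp (hVr.to_quotient MV)
        have hk0 : k ≠ 0 := by
          intro h; rw [h, pow_zero] at hk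
          exact absurd hk (Finite.one_lt_card (α := V ⧸ MV)).ne'
        obtain ⟨w, hw⟩ := exists_prime_orderOf_dvd_card' (G := V ⧸ MV) r (hk ▸ dvd_pow_self r hk0)
        have hinj := (Finite.injective_iff_surjective (f := (powMonoidHom r : (V ⧸ MV) →* (V ⧸ MV)))).mpr
          (MonoidHom.range_eq_top.mp e)
        have : w = 1 := hinj (by
          change w ^ r = 1 ^ r
          rw [one_pow, ← hw, pow_orderOf_eq_one])
        rw [this, orderOf_one] at hw
        exact hr.out.one_lt.ne hw
    letI : Module (ZMod r) (Additive (V ⧸ MV)) := AddCommGroup.zmodModule (fun w => by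
      change Additive.ofMul ((Additive.toMul w) ^ r) = 0
      rw [hexp]; rfl)
    haveI : Finite (Additive (V ⧸ MV)) := inferInstanceAs (Finite (V ⧸ MV))
    haveI : FiniteDimensional (ZMod r) (Additive (V ⧸ MV)) := Module.Finite.of_finite
    haveI : Nontrivial (Additive (V ⧸ MV)) := inferInstanceAs (Nontrivial (V ⧸ MV))
    let q : V → (Additive (V ⧸ MV)) := fun w => Additive.ofMul (QuotientGroup.mk' MV w)
    have hqmul : ∀ u w, q (u * w) = q u + q w := fun u w => by
      simp only [q, map_mul]; rfl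
    have hq0 : ∀ w : V, q w = 0 ↔ (w : G) ∈ M := fun w => by
      change QuotientGroup.mk' MV w = 1 ↔ _
      rw [QuotientGroup.mk'_apply, QuotientGroup.eq_one_iff, Subgroup.mem_subgroupOf]
    have hqs : Function.Surjective q := fun w => QuotientGroup.mk'_surjective MV w
    have hqinv : ∀ w, q w⁻¹ = - q w := fun w => by simp only [q, map_inv]; rfl
    let φ : A → (Additive (V ⧸ MV) →+ Additive (V ⧸ MV)) := fun g => MonoidHom.toAdditive (cjW g)
    have hφq : ∀ (g : A) (w : V), φ g (q w) = q (cjV g w) := fun _ _ => rfl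
    have hφ1 : ∀ w, φ 1 w = w := fun w => by
      obtain ⟨w, rfl⟩ := hqs w
      rw [hφq, show cjV 1 w = w from Subtype.ext (by simp [cjV])]
    have hφmul : ∀ g h w, φ (g * h) w = φ g (φ h w) := fun g h w => by
      obtain ⟨w, rfl⟩ := hqs w
      rw [hφq, hφq, hφq, show cjV (g * h) w = cjV g (cjV h w) from Subtype.ext (by simp [cjV, mul_assoc])]
    have hirr : ∀ U : AddSubgroup (Additive (V ⧸ MV)), (∀ g, ∀ w ∈ U, φ g w ∈ U) → U = ⊥ ∨ U = ⊤ := by
      intro U hU
      let S : Subgroup (V ⧸ MV) :=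
        { carrier := {w | Additive.ofMul w ∈ U}
          one_mem' := U.zero_mem
          mul_mem' := fun ha hb => U.add_mem ha hb
          inv_mem' := fun ha => U.neg_mem ha }
      rcases hW S inferInstance (fun g => by rintro _ ⟨w, hw, rfl⟩; exact hU g _ hw) with e | e
      · left
        rw [eq_bot_iff]
        intro w hw
        have : Additive.toMul w ∈ S := hw
        rw [e, Subgroup.mem_bot] at this
        exact this
      · right
        rw [eq_top_iff]
        intro w _
        exact (e ▸ Subgroup.mem_top (Additive.toMul w) : Additive.toMul w ∈ S)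
    -- the coprime part of the Fitting subgroup
    obtain ⟨F0, hF0n, hF0c, hF0f, hfF0⟩ : ∃ F0 : Subgroup A, F0.Normal ∧ (Nat.card F0).Coprime r ∧
        F0 ≤ Cfsg.fittingSubgroup A ∧ (⟨f, hfA⟩ : A) ∈ F0 := by
      haveI := CfsgLib.Fitting.fittingSubgroup_normal (G := A)
      haveI := CfsgLib.Fitting.fittingSubgroup_isNilpotent (G := A)
      set FA := Cfsg.fittingSubgroup A with hFA
      obtain ⟨S⟩ : Nonempty (Sylow r FA) := inferInstance
      obtain ⟨k, hk⟩ := IsPGroup.iff_card.mp S.2
      have hcop : (S : Subgroup FA).index.Coprime (Nat.card S) := by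
        rw [hk]
        exact ((Nat.Prime.coprime_iff_not_dvd hr.out).mpr S.not_dvd_index).symm.pow_right k
      obtain ⟨K, hK⟩ := CfsgLib.Hall.exists_hall (G := FA)
        ((S : Subgroup FA).card_mul_index.symm.trans (mul_comm _ _)) hcop
      have hKi : K.index = r ^ k := by
        refine Nat.eq_of_mul_eq_mul_left (Nat.card_pos (α := K)) ?_
        rw [K.card_mul_index, hK, ← hk, mul_comm, Subgroup.card_mul_index]
      have hKc : (Nat.card K).Coprime r :=
        hK ▸ ((Nat.Prime.coprime_iff_not_dvd hr.out).mpr S.not_dvd_index).symm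
      have hmemK : ∀ z : FA, (orderOf z).Coprime r → z ∈ K := fun z hz =>
        CfsgLib.Hall.mem_of_coprime_orderOf_of_isNilpotent (dvd_of_eq hKi) hz
      refine ⟨K.map FA.subtype, ⟨fun z hz g => ?_⟩, by rwa [Subgroup.card_subtype], Subgroup.map_subtype_le _, ?_⟩
      · obtain ⟨z, hzK, rfl⟩ := hz
        refine ⟨⟨g * z * g⁻¹, (inferInstance : FA.Normal).conj_mem (z : A) z.2 g⟩, hmemK _ ?_, rfl⟩
        rw [← Subgroup.orderOf_coe, CfsgLib.Hall.orderOf_conj, Subgroup.orderOf_coe]
        exact hKc.coprime_dvd_left (Subgroup.orderOf_dvd_natCard K hzK)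
      · obtain ⟨z, hz, e⟩ := hfF
        refine ⟨⟨⟨f, hfA⟩, (Subtype.ext e : z = ⟨f, hfA⟩) ▸ hz⟩, hmemK _ ?_, rfl⟩
        rwa [← Subgroup.orderOf_coe, ← Subgroup.orderOf_coe]
    haveI := hF0n
    haveI : Fintype F0 := Fintype.ofFinite F0
    -- `f` acts non-trivially
    have hφf : ∃ w, φ ⟨f, hfA⟩ w ≠ w := by
      refine ⟨q ⟨v, hv⟩, fun h1 => ?_⟩
      rw [hφq, ← sub_eq_zero, sub_eq_add_neg, ← hqinv, ← hqmul, hq0] at h1
      change f * v * f⁻¹ * v⁻¹ ∈ M at h1
      set m := f * v * f⁻¹ * v⁻¹ with hm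
      have hfm : Commute f m := hsmall M ⟨hMV, hMne, hAM, hVM⟩ m h1
      have hiter : ∀ i : ℕ, f ^ i * v * (f ^ i)⁻¹ = m ^ i * v := by
        intro i
        induction i with
        | zero => simp
        | succ i hi =>
          calc f ^ (i + 1) * v * (f ^ (i + 1))⁻¹ = f * (f ^ i * v * (f ^ i)⁻¹) * f⁻¹ := by rw [pow_succ']; group
            _ = f * (m ^ i * v) * f⁻¹ := by rw [hi]
            _ = f * m ^ i * v * f⁻¹ := by group
            _ = m ^ i * f * v * f⁻¹ := by rw [(hfm.pow_right i).eq]
            _ = m ^ i * (f * v * f⁻¹) := by group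
            _ = m ^ i * (m * v) := by rw [hm]; group
            _ = _ := by rw [pow_succ]; group
      have h2 := hiter (orderOf f)
      rw [pow_orderOf_eq_one, one_mul, inv_one, mul_one, right_eq_mul] at h2
      obtain ⟨j, hj⟩ := hVr ⟨m, hMV h1⟩
      have h3 : orderOf m ∣ Nat.gcd (orderOf f) (r ^ j) := Nat.dvd_gcd (orderOf_dvd_of_pow_eq_one h2)
        (orderOf_dvd_of_pow_eq_one (by simpa using congrArg Subtype.val hj))
      rw [Nat.Coprime.pow_right j hfr, Nat.dvd_one, orderOf_eq_one_iff] at h3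
      exact hcomm (show f * v = v * f by rwa [hm, mul_inv_eq_one, mul_inv_eq_iff_eq_mul] at h3)
    -- the generators
    set xA : A := ⟨x, hxA⟩
    set yA : A := ⟨y, hyA⟩
    have hgenA : Subgroup.normalClosure ({xA} : Set A) = ⊤ := by
      set N := Subgroup.normalClosure ({xA} : Set A)
      have hxN : xA ∈ N := Subgroup.subset_normalClosure rfl
      have hyN : yA ∈ N := by
        have := (Subgroup.normalClosure_normal (s := ({xA} : Set A))).conj_mem _ hxN ⟨a, haA⟩
        exact (Subtype.ext rfl : yA = ⟨a, haA⟩ * xA * ⟨a, haA⟩⁻¹) ▸ this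
      have : A ≤ N.map A.subtype := by
        conv_lhs => rw [hAeq']
        rw [Subgroup.closure_le]
        rintro z (rfl | hz)
        · exact ⟨xA, hxN, rfl⟩
        · rw [Set.mem_singleton_iff] at hz; exact ⟨yA, hyN, hz.symm⟩
      rw [eq_top_iff]
      intro z _
      obtain ⟨z', hz', e⟩ := this z.2
      exact Subtype.ext e ▸ hz'
    haveI := hAs
    obtain ⟨t0, ht0⟩ := exists_no_cocycle hp φ hφ1 hφmul hirr F0 hF0c hfF0 hφf xA ⟨a, haA⟩
      (Subtype.ext (by simpa [xA] using hxp)) hgenA
    obtain ⟨⟨t, ht⟩, rfl⟩ := hqs t0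
    -- the group generated by the two conjugates
    set b := t * a with hb
    set K := P ⊔ P.map (MulAut.conj b).toMonoidHom with hKdef
    have hKeq : K = Subgroup.closure {x, b * x * b⁻¹} := closure_pair_eq hPx b
    have hz : b * x * b⁻¹ = t * y * t⁻¹ := by rw [hb, hy]; group
    have hKAV : K ≤ A ⊔ V := by
      rw [hKeq, Subgroup.closure_le]
      rintro z (rfl | hz')
      · exact Subgroup.mem_sup_left hxA
      · rw [Set.mem_singleton_iff] at hz'
        rw [hz', hz]
        exact mul_mem (mul_mem (Subgroup.mem_sup_right ht) (Subgroup.mem_sup_left hyA))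
          (inv_mem (Subgroup.mem_sup_right ht))
    have hAVnV : A ⊔ V ≤ Subgroup.normalizer (V : Set G) := sup_le hAV Subgroup.le_normalizer
    have hAVnM : A ⊔ V ≤ Subgroup.normalizer (M : Set G) := sup_le hAM hVM
    have hAKV : A ≤ K ⊔ V := by
      conv_lhs => rw [hAeq']
      rw [Subgroup.closure_le]
      rintro z (rfl | hz')
      · exact Subgroup.mem_sup_left (Subgroup.mem_sup_left hxP)
      · rw [Set.mem_singleton_iff] at hz'
        have hmem : t⁻¹ * (b * x * b⁻¹) * t ∈ K ⊔ V := mul_mem (mul_mem (inv_mem (Subgroup.mem_sup_right ht))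
          (Subgroup.mem_sup_left (hKeq.ge (Subgroup.subset_closure (Set.mem_insert_of_mem _ rfl))))) (Subgroup.mem_sup_right ht)
        rw [hz] at hmem
        rw [hz', show y = t⁻¹ * (t * y * t⁻¹) * t by group]
        exact hmem
    by_cases hcov : K ⊓ V ≤ M
    swap
    · exfalso
      set V1 := K ⊓ V
      have hKV1 : K ≤ Subgroup.normalizer (V1 : Set G) := fun g hg =>
        Subgroup.mem_normalizer_fintype fun u hu =>
          ⟨K.mul_mem (K.mul_mem hg hu.1) (K.inv_mem hg),
            (Subgroup.mem_normalizer_iff.mp (hAVnV (hKAV hg)) u).mp hu.2⟩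
      have hV1 : V1 = V := by
        by_contra hne
        obtain h | ⟨C, hC, hle⟩ := eq_top_or_exists_le_coatom (V1.subgroupOf V)
        · exact hne (le_antisymm inf_le_right (Subgroup.subgroupOf_eq_top.mp h))
        haveI : Group.IsNilpotent V := hVr.isNilpotent
        haveI hCn : C.Normal := Subgroup.NormalizerCondition.normal_of_coatom C
          normalizerCondition_of_isNilpotent hC
        set T : Set G := {z | ∃ w ∈ V, ∃ u ∈ V1, z = w * u * w⁻¹}
        set V2 := Subgroup.closure T with hV2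
        have hV2C : V2 ≤ C.map V.subtype := by
          rw [hV2, Subgroup.closure_le]
          rintro _ ⟨w, hw, u, hu, rfl⟩
          exact ⟨⟨w, hw⟩ * ⟨u, hu.2⟩ * ⟨w, hw⟩⁻¹,
            hCn.conj_mem _ (hle (Subgroup.mem_subgroupOf.mpr hu)) _, rfl⟩
        have hV2V : V2 ≤ V := hV2C.trans (Subgroup.map_subtype_le _)
        have hV2ne : V2 ≠ V := fun e => hC.1 (by
          rw [eq_top_iff]
          intro w _
          obtain ⟨w', hw', ee⟩ := hV2C (e.ge w.2)
          exact Subtype.ext ee ▸ hw')
        have hgen : ∀ g, g ∈ Subgroup.normalizer (V : Set G) → (∀ u ∈ V1, g * u * g⁻¹ ∈ T) →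
            g ∈ Subgroup.normalizer (V2 : Set G) := by
          intro g hg hu
          refine Subgroup.mem_normalizer_fintype fun z hz => ?_
          have : V2.map (MulAut.conj g).toMonoidHom ≤ V2 := by
            rw [hV2, MonoidHom.map_closure, Subgroup.closure_le]
            rintro _ ⟨_, ⟨w, hw, u, hu', rfl⟩, rfl⟩
            obtain ⟨w', hw', u', hu'', e⟩ := hu u hu'
            refine Subgroup.subset_closure ⟨g * w * g⁻¹ * w', mul_mem ((Subgroup.mem_normalizer_iff.mp hg w).mp hw) hw', u', hu'', ?_⟩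
            change g * (w * u * w⁻¹) * g⁻¹ = _
            calc g * (w * u * w⁻¹) * g⁻¹ = g * w * g⁻¹ * (g * u * g⁻¹) * (g * w * g⁻¹)⁻¹ := by group
              _ = g * w * g⁻¹ * (w' * u' * w'⁻¹) * (g * w * g⁻¹)⁻¹ := by rw [e]
              _ = _ := by group
          exact this ⟨z, hz, rfl⟩
        have hVn : V ≤ Subgroup.normalizer (V2 : Set G) := fun g hg =>
          hgen g (Subgroup.le_normalizer hg) (fun u hu => ⟨g, hg, u, hu, rfl⟩)
        have hKn : K ≤ Subgroup.normalizer (V2 : Set G) := fun g hg =>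
          hgen g (hAVnV (hKAV hg)) (fun u hu => ⟨1, V.one_mem, _,
            (Subgroup.mem_normalizer_iff.mp (hKV1 hg) u).mp hu, by group⟩)
        exact hcov (le_trans (show V1 ≤ V2 from fun u hu => Subgroup.subset_closure ⟨1, V.one_mem, u, hu, by group⟩)
          (huniq V2 ⟨hV2V, hV2ne, hAKV.trans (sup_le hKn hVn), hVn⟩))
      have hVK : V ≤ K := hV1 ▸ inf_le_left
      have hAK : A ≤ K := hAKV.trans (sup_le le_rfl hVK)
      have hbK : b ∈ K := K.mul_mem (hVK ht) (hAK haA)
      have hKs : Group.IsSolvable K := by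
        haveI := hAs
        haveI : Group.IsNilpotent V := hVr.isNilpotent
        haveI hnV : (V.subgroupOf K).Normal :=
          (Subgroup.normal_subgroupOf_iff_le_normalizer hVK).mpr (hKAV.trans hAVnV)
        haveI : Group.IsSolvable (K ⧸ V.subgroupOf K) := by
          refine solvable_of_surjective (f := (QuotientGroup.mk' (V.subgroupOf K)).comp (Subgroup.inclusion hAK)) ?_
          intro z
          obtain ⟨⟨z, hz⟩, rfl⟩ := QuotientGroup.mk'_surjective _ z
          have hz' : z ∈ (A : Set G) * (V : Set G) := by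
            rw [← Subgroup.coe_mul_of_left_le_normalizer_right _ _ hAV]; exact hKAV hz
          obtain ⟨a', ha', w, hw, rfl⟩ := hz'
          refine ⟨⟨a', ha'⟩, ?_⟩
          rw [MonoidHom.comp_apply, QuotientGroup.mk'_apply, QuotientGroup.mk'_apply, QuotientGroup.eq,
            Subgroup.mem_subgroupOf]
          simpa using hw
        haveI : Group.IsSolvable (V.subgroupOf K) :=
          haveI : Group.IsNilpotent (V.subgroupOf K) := Group.nilpotent_of_mulEquiv (Subgroup.subgroupOfEquivOfLe hVK).symm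
          inferInstance
        exact solvable_of_ker_le_range (V.subgroupOf K).subtype (QuotientGroup.mk' (V.subgroupOf K))
          (by rw [QuotientGroup.ker_mk', Subgroup.range_subtype])
      have hKA := hmax K hAK hKs ⟨b, hbK, rfl⟩
      have hVA : V ≤ A := hKA ▸ hVK
      haveI : (V.subgroupOf A).Normal := (Subgroup.normal_subgroupOf_iff_le_normalizer hVA).mpr hAV
      have hVF : V.subgroupOf A ≤ Cfsg.fittingSubgroup A := CfsgLib.Fitting.le_fittingSubgroup inferInstance
        (haveI : Group.IsNilpotent V := hVr.isNilpotent; Group.nilpotent_of_mulEquiv (Subgroup.subgroupOfEquivOfLe hVA).symm)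
      haveI := CfsgLib.Fitting.fittingSubgroup_isNilpotent (G := A)
      obtain ⟨j, hj⟩ := hVr ⟨v, hv⟩
      have := CfsgLib.Hall.commute_of_coprime_orderOf (G := Cfsg.fittingSubgroup A)
        (x := ⟨⟨v, hVA hv⟩, hVF (Subgroup.mem_subgroupOf.mpr hv)⟩) (y := ⟨⟨f, hfA⟩, hF0f hfF0⟩) (p := r) (j := j)
        (orderOf_dvd_of_pow_eq_one (Subtype.ext (Subtype.ext (by simpa using congrArg Subtype.val hj))))
        (by rwa [← Subgroup.orderOf_coe, ← Subgroup.orderOf_coe])
      exact hcomm (congrArg (fun z : Cfsg.fittingSubgroup A => ((z : A) : G)) this).symm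
    · -- the cocycle
      have hLV : ∀ w ∈ V, w ∈ K ⊔ M → w ∈ M := by
        intro w hw hwL
        have hw' : w ∈ (K : Set G) * (M : Set G) := by
          rw [← Subgroup.coe_mul_of_left_le_normalizer_right _ _ (hKAV.trans hAVnM)]; exact hwL
        obtain ⟨k, hk, m, hm, rfl⟩ := hw'
        exact M.mul_mem (hcov ⟨hk, by simpa using V.mul_mem hw (V.inv_mem (hMV hm))⟩) hm
      have hex : ∀ g : A, ∃ w : V, (w : G) * g ∈ K ⊔ M := by
        intro g
        have hg : (g : G) ∈ (K : Set G) * (V : Set G) := by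
          rw [← Subgroup.coe_mul_of_left_le_normalizer_right _ _ (hKAV.trans hAVnV)]; exact hAKV g.2
        obtain ⟨k, hk, w, hw, e⟩ := hg
        refine ⟨⟨k * w⁻¹ * k⁻¹, (Subgroup.mem_normalizer_iff.mp (hAVnV (hKAV hk)) _).mp (V.inv_mem hw)⟩, ?_⟩
        change k * w⁻¹ * k⁻¹ * (g : G) ∈ _
        rw [← e, show k * w⁻¹ * k⁻¹ * (k * w) = k by group]
        exact Subgroup.mem_sup_left hk
      choose c hc using hex
      have hu : ∀ (g : A) (w : V), (w : G) * g ∈ K ⊔ M → q w = q (c g) := by
        intro g w hw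
        rw [← sub_eq_zero, sub_eq_add_neg, ← hqinv, ← hqmul, hq0]
        refine hLV _ (w * (c g)⁻¹).2 ?_
        have := (K ⊔ M).mul_mem hw ((K ⊔ M).inv_mem (hc g))
        simpa [mul_assoc] using this
      refine ht0 ⟨fun g => q (c g), fun g h => ?_, ?_, ?_⟩
      · rw [hφq, ← hqmul]
        refine (hu (g * h) _ ?_).symm
        have := (K ⊔ M).mul_mem (hc g) (hc h)
        simpa [cjV, mul_assoc] using this
      · show q (c xA) = 0
        rw [← hu xA 1 (by simpa [xA] using Subgroup.mem_sup_left (Subgroup.mem_sup_left hxP))]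
        exact (hq0 1).mpr M.one_mem
      · have hay : (⟨a, haA⟩ : A) * xA * ⟨a, haA⟩⁻¹ = yA := Subtype.ext rfl
        rw [hay, hφq, sub_eq_add_neg, ← hqinv, ← hqmul]
        refine (hu yA _ ?_).symm
        refine Subgroup.mem_sup_left ?_
        have e : ((⟨t, ht⟩ * (cjV yA ⟨t, ht⟩)⁻¹ : V) : G) * (yA : G) = b * x * b⁻¹ := by
          rw [hz]; simp [cjV, yA, mul_assoc]
        rw [e, hKeq]
        exact Subgroup.subset_closure (Set.mem_insert_of_mem _ rfl)

end CfsgLib.FixBound
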