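import Cfsg.Agent.Lib.FixBound.Orbit

/-!
Projections of an internal decomposition.
-/

set_option autoImplicit false

open scoped DirectSum

namespace CfsgLib.FixBound

variable {K V X : Type*} [Field K] [AddCommGroup V] [Module K V] [FiniteDimensional K V]

/-- Projections attached to an internal decomposition. -/
theorem exists_proj [Fintype X] [DecidableEq X] (U : X → Submodule K V) (hi : iSupIndep U) (hs : ⨆ i, U i = ⊤) :
    ∃ π : X → Module.End K V, (∑ i, π i = 1) ∧ (∀ i j, i ≠ j → π i * π j = 0) ∧
      (∀ i, LinearMap.range (π i) = U i) ∧ (∀ i j, ∀ v ∈ U j, π i v = if i = j then v else 0) := by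
  have hint : DirectSum.IsInternal U := (DirectSum.isInternal_submodule_iff_iSupIndep_and_iSup_eq_top U).mpr ⟨hi, hs⟩
  let e : (⨁ i, U i) ≃ₗ[K] V := LinearEquiv.ofBijective (DirectSum.coeLinearMap U) hint
  let π : X → Module.End K V := fun i =>
    (Submodule.subtype (U i)).comp ((DirectSum.component K X (fun i => U i) i).comp e.symm.toLinearMap)
  have happ : ∀ i j, ∀ v ∈ U j, π i v = if i = j then v else 0 := by
    intro i j v hv
    have he : e (DirectSum.lof K X (fun i => U i) j ⟨v, hv⟩) = v := DirectSum.coeLinearMap_of U j ⟨v, hv⟩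
    have hs' : e.symm v = DirectSum.lof K X (fun i => U i) j ⟨v, hv⟩ :=
      e.symm_apply_eq.mpr he.symm
    change ((DirectSum.component K X (fun i => U i) i (e.symm v) : U i) : V) = _
    rw [hs']
    by_cases h : i = j
    · subst h
      rw [if_pos rfl]
      rw [DirectSum.component.lof_self]
    · rw [if_neg h, DirectSum.component.of, dif_neg (Ne.symm h)]
      rfl
  have hmem : ∀ i v, π i v ∈ U i := fun i v => Subtype.mem _
  refine ⟨π, ?_, fun i j hij => ?_, fun i => ?_, happ⟩
  · refine LinearMap.ext fun v => ?_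
    have hv : v ∈ ⨆ i, U i := hs ▸ Submodule.mem_top
    refine Submodule.iSup_induction U (motive := fun v => (∑ i, π i) v = (1 : Module.End K V) v) hv ?_ ?_ ?_
    · intro j v hv
      simp [happ _ j v hv]
    · simp
    · intro a b ha hb; rw [map_add, map_add, ha, hb]
  · refine LinearMap.ext fun v => ?_
    change π i (π j v) = 0
    rw [happ i j _ (hmem j v), if_neg hij]
  · refine le_antisymm ?_ fun v hv => ⟨v, by rw [happ i i v hv, if_pos rfl]⟩
    rintro _ ⟨v, rfl⟩
    exact hmem i v

end CfsgLib.FixBound
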