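import Cfsg.Agent.Lib.FixBound.Decomp

/-!
Operators whose `p`-th power is a scalar, and operators twisting one another.
-/

set_option autoImplicit false

open scoped DirectSum

namespace CfsgLib.FixBound

variable {K V : Type*} [Field K] [AddCommGroup V] [Module K V] [FiniteDimensional K V]

/-- The dimensions of independent subspaces inside a subspace add up to at most its dimension. -/
theorem sum_finrank_le {X : Type*} [Fintype X] [DecidableEq X] (U : X → Submodule K V) (hi : iSupIndep U)
    (W : Submodule K V) (hW : ∀ i, U i ≤ W) : ∑ i, Module.finrank K (U i) ≤ Module.finrank K W := by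
  have hinj := hi.dfinsupp_lsum_injective
  let f : (⨁ i, U i) →ₗ[K] W := (DirectSum.toModule K X W fun i => Submodule.inclusion (hW i))
  have hf : Function.Injective f := by
    have : W.subtype.comp f = DirectSum.coeLinearMap U := by
      refine DirectSum.linearMap_ext K fun i => LinearMap.ext fun v => ?_
      simp [f, DirectSum.coeLinearMap_lof]
    intro a b h
    exact hinj (show DirectSum.coeLinearMap U a = DirectSum.coeLinearMap U b by
      rw [← this, LinearMap.comp_apply, LinearMap.comp_apply, h])
  have := LinearMap.finrank_le_finrank_of_injective hf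
  rwa [Module.finrank_directSum] at this

/-- The eigenvalues of an operator with scalar `p`-th power. -/
def lam {p : ℕ} (η ω : K) (j : ZMod p) : K := η * ω ^ j.val

omit [FiniteDimensional K V] in
theorem lam_add {p : ℕ} [NeZero p] (η : K) {ω : K} (hω : ω ^ p = 1) (i j : ZMod p) :
    lam η ω (i + j) = lam η ω i * ω ^ j.val := by
  rw [lam, lam, mul_assoc, ← pow_add, ZMod.val_add, ← pow_eq_pow_mod _ hω]

theorem lam_injective {p : ℕ} [NeZero p] {η ω : K} (hη : η ≠ 0) (hω : IsPrimitiveRoot ω p) :
    Function.Injective (lam η ω : ZMod p → K) := fun i j h =>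
  ZMod.val_injective p (hω.pow_inj (ZMod.val_lt i) (ZMod.val_lt j) (mul_left_cancel₀ hη h))

/-- The space decomposes into the eigenspaces. -/
theorem iSup_eigenspace_eq_top {p : ℕ} [hp : Fact p.Prime] (U : Module.End K V) {η ω : K} (hη : η ≠ 0)
    (hU : U ^ p = η ^ p • 1) (hω : IsPrimitiveRoot ω p) :
    ⨆ j : ZMod p, Module.End.eigenspace U (lam η ω j) = ⊤ := by
  classical
  rw [eq_top_iff]
  intro v _
  have hl : ∀ j : ZMod p, lam η ω j ≠ 0 := fun j =>
    mul_ne_zero hη (pow_ne_zero _ (hω.ne_zero hp.out.ne_zero))
  have hlp : ∀ j : ZMod p, lam η ω j ^ p = η ^ p := fun j => by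
    rw [lam, mul_pow, ← pow_mul, mul_comm j.val, pow_mul, hω.pow_eq_one, one_pow, mul_one]
  have hpK : (p : K) ≠ 0 := by
    intro h
    haveI : CharP K p := (CharP.charP_iff_prime_eq_zero hp.out).mpr h
    have h1 : ω ^ p = 1 ^ p := by rw [hω.pow_eq_one, one_pow]
    exact hω.ne_one hp.out.one_lt (frobenius_inj K p h1)
  set w : ZMod p → V := fun j => ∑ n ∈ Finset.range p, ((lam η ω j) ^ n)⁻¹ • (U ^ n) v with hw
  have hmem : ∀ j, w j ∈ Module.End.eigenspace U (lam η ω j) := by
    intro j
    rw [Module.End.mem_eigenspace_iff, hw]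
    simp only [map_sum, map_smul, Finset.smul_sum]
    set F : ℕ → V := fun n => lam η ω j • ((lam η ω j) ^ n)⁻¹ • (U ^ n) v with hF
    have e1 : ∀ n, ((lam η ω j) ^ n)⁻¹ • U ((U ^ n) v) = F (n + 1) := by
      intro n
      rw [hF]
      simp only
      rw [smul_smul, ← Module.End.mul_apply, ← pow_succ']
      congr 1
      rw [pow_succ', mul_inv, ← mul_assoc, mul_inv_cancel₀ (hl j), one_mul]
    simp only [e1]
    have e2 : F p = F 0 := by
      rw [hF]
      simp only [hlp, hU, LinearMap.smul_apply, Module.End.one_apply, smul_smul, pow_zero, inv_one, mul_one]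
      rw [inv_mul_cancel₀ (pow_ne_zero _ hη), mul_one]
    exact add_right_cancel (b := F 0) (calc
      ∑ n ∈ Finset.range p, F (n + 1) + F 0 = ∑ n ∈ Finset.range (p + 1), F n := (Finset.sum_range_succ' F p).symm
      _ = ∑ n ∈ Finset.range p, F n + F 0 := by rw [Finset.sum_range_succ, e2])
  have hsum : ∑ j, w j = (p : K) • v := by
    rw [hw, Finset.sum_comm, Finset.sum_eq_single 0]
    · simp [ZMod.card, Nat.cast_smul_eq_nsmul]
    · intro n hn hn0
      rw [← Finset.sum_smul]
      have hz : (ω ^ n)⁻¹ ≠ 1 := fun h => by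
        rw [inv_eq_one] at h
        exact hω.pow_ne_one_of_pos_of_lt hn0 (Finset.mem_range.mp hn) h
      have hgeom : ∑ m ∈ Finset.range p, ((ω ^ n)⁻¹) ^ m = 0 := by
        rw [geom_sum_eq hz, inv_pow, ← pow_mul, mul_comm n, pow_mul, hω.pow_eq_one, one_pow, inv_one,
          sub_self, zero_div]
      have : ∑ j : ZMod p, ((lam η ω j) ^ n)⁻¹ = (η ^ n)⁻¹ * ∑ m ∈ Finset.range p, ((ω ^ n)⁻¹) ^ m := by
        rw [Finset.mul_sum]
        refine (Finset.sum_bij (fun (j : ZMod p) _ => j.val) (fun j _ => Finset.mem_range.mpr (ZMod.val_lt j))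
          (fun a _ b _ h => ZMod.val_injective p h)
          (fun m hm => ⟨(m : ZMod p), Finset.mem_univ _, ZMod.val_natCast_of_lt (Finset.mem_range.mp hm)⟩) ?_)
        intro j _
        rw [lam, mul_pow, mul_inv, inv_pow, ← pow_mul, ← pow_mul, mul_comm n]
      rw [this, hgeom, mul_zero, zero_smul]
    · intro h; exact absurd (Finset.mem_range.mpr hp.out.pos) h
  have : (p : K) • v ∈ ⨆ j : ZMod p, Module.End.eigenspace U (lam η ω j) :=
    hsum ▸ Submodule.sum_mem _ fun j _ => Submodule.mem_iSup_of_mem j (hmem j)
  exact (Submodule.smul_mem_iff _ hpK).mp this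

/-- Each value of the twisting exponent occurs at most twice. -/
theorem two_values {p : ℕ} [hp : Fact p.Prime] (hp2 : p ≠ 2) (b n : ZMod p) (m : ZMod p)
    (h : 2 * b * n - n * n + n = 2 * b * m - m * m + m) : m = n ∨ m = 2 * b + 1 - n := by
  have : (n - m) * (2 * b + 1 - n - m) = 0 := by linear_combination h
  rcases mul_eq_zero.mp this with e | e
  · exact Or.inl (sub_eq_zero.mp e).symm
  · exact Or.inr (by linear_combination -e)

/-- The bound for the twisted configuration. -/
theorem two_mul_fix_lt_twist {p : ℕ} [hp : Fact p.Prime] (hp5 : 5 ≤ p) [Nontrivial V]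
    (X U Y : Module.End K V) (hY : Function.Injective Y) {η ω a κ : K} (hη : η ≠ 0) (hU : U ^ p = η ^ p • 1)
    (hω : IsPrimitiveRoot ω p) (hκ : κ ≠ 0) (hYp : Y ^ p = κ • 1) (hUY : U * Y = ω • (Y * U))
    (hXY : X * Y = U * Y * X) (ha : a ≠ 0) (hXU : X * U = a • (U * X)) (hX : Function.Injective X) :
    2 * Module.finrank K (LinearMap.ker (X - 1)) < Module.finrank K V := by
  classical
  set E : ZMod p → Submodule K V := fun j => Module.End.eigenspace U (lam η ω j) with hE
  have hEi : iSupIndep E := (Module.End.eigenspaces_iSupIndep U).comp (lam_injective hη hω)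
  have hEs : ⨆ j, E j = ⊤ := iSup_eigenspace_eq_top U hη hU hω
  obtain ⟨π, hπ, hπ0, hπr, hπa⟩ := exists_proj E hEi hEs
  have hmem : ∀ {j v}, v ∈ E j ↔ U v = lam η ω j • v := fun {j v} => Module.End.mem_eigenspace_iff
  have hYE : ∀ j, ∀ v ∈ E j, Y v ∈ E (j + 1) := by
    intro j v hv
    rw [hmem] at hv ⊢
    have := LinearMap.congr_fun hUY v
    rw [Module.End.mul_apply, LinearMap.smul_apply, Module.End.mul_apply, hv, map_smul, smul_smul] at this
    rw [this, lam_add η hω.pow_eq_one, ZMod.val_one, pow_one, mul_comm]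
  have hYE' : ∀ (n : ℕ) j, ∀ v ∈ E j, (Y ^ n) v ∈ E (j + n) := by
    intro n
    induction n with
    | zero => intro j v hv; simpa using hv
    | succ n ih =>
      intro j v hv
      rw [pow_succ', Module.End.mul_apply, Nat.cast_succ, ← add_assoc]
      exact hYE _ _ (ih j v hv)
  have hYinj : ∀ n : ℕ, Function.Injective (Y ^ n : Module.End K V) := by
    intro n; rw [Module.End.coe_pow]; exact hY.iterate n
  set d0 := Module.finrank K (E 0) with hd0
  have hdim : ∀ j, Module.finrank K (E j) = d0 := by
    have hle : ∀ (n : ℕ) j, Module.finrank K (E j) ≤ Module.finrank K (E (j + n)) := fun n j => by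
      refine (Submodule.equivMapOfInjective (Y ^ n) (hYinj n) (E j)).finrank_eq.trans_le
        (Submodule.finrank_mono ?_)
      rintro _ ⟨v, hv, rfl⟩
      exact hYE' n j v hv
    intro j
    have h1 := hle (-j).val j
    have h2 := hle j.val 0
    rw [ZMod.natCast_zmod_val, add_neg_cancel] at h1
    rw [ZMod.natCast_zmod_val, zero_add] at h2
    exact le_antisymm h1 h2
  have hsum := sum_finrank_range π hπ hπ0
  have hdimr : ∀ j, Module.finrank K (LinearMap.range (π j)) = d0 := fun j => by rw [hπr]; exact hdim j
  simp only [hdimr, Finset.sum_const, Finset.card_univ, ZMod.card, smul_eq_mul] at hsum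
  have hVpos : 0 < Module.finrank K V := Module.finrank_pos
  have hd0pos : 0 < d0 := by
    rcases Nat.eq_zero_or_pos d0 with h | h
    · rw [h, mul_zero] at hsum; omega
    · exact h
  have hlne : ∀ j : ZMod p, lam η ω j ≠ 0 := fun j =>
    mul_ne_zero hη (pow_ne_zero _ (hω.ne_zero hp.out.ne_zero))
  by_cases ha1 : a = 1
  swap
  · -- the eigenspaces are permuted without fixed points
    have hXUn : ∀ n : ℕ, X * U ^ n = a ^ n • (U ^ n * X) := by
      intro n
      induction n with
      | zero => simp
      | succ n ih =>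
        rw [pow_succ, ← mul_assoc, ih, smul_mul_assoc, mul_assoc, hXU, mul_smul_comm, smul_smul,
          ← mul_assoc, ← pow_succ, ← pow_succ]
    have hap : a ^ p = 1 := by
      have h := hXUn p
      rw [hU, mul_smul_comm, mul_one, smul_mul_assoc, one_mul, smul_smul] at h
      obtain ⟨v, hv⟩ := exists_ne (0 : V)
      have h2 := LinearMap.congr_fun h v
      rw [LinearMap.smul_apply, LinearMap.smul_apply] at h2
      have h3 : (η ^ p - a ^ p * η ^ p) • X v = 0 := by rw [sub_smul, ← h2, sub_self]
      have h4 := (smul_eq_zero.mp h3).resolve_right (fun e => hv (hX (by rw [e, map_zero])))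
      exact (mul_eq_right₀ (pow_ne_zero p hη)).mp (sub_eq_zero.mp h4).symm
    obtain ⟨s, hs, hsa⟩ := hω.eq_pow_of_pow_eq_one hap
    have hs0 : (s : ZMod p) ≠ 0 := by
      rw [Ne, ← ZMod.val_eq_zero, ZMod.val_natCast_of_lt hs]
      intro e; rw [e, pow_zero] at hsa; exact ha1 hsa.symm
    have hXE : ∀ j, ∀ v ∈ E j, X v ∈ E (j - (s : ZMod p)) := by
      intro j v hv
      rw [hmem] at hv ⊢
      have := LinearMap.congr_fun hXU v
      rw [Module.End.mul_apply, LinearMap.smul_apply, Module.End.mul_apply, hv, map_smul] at this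
      have e : lam η ω j = a * lam η ω (j - (s : ZMod p)) := by
        conv_lhs => rw [← sub_add_cancel j (s : ZMod p), lam_add η hω.pow_eq_one, ZMod.val_natCast_of_lt hs, hsa]
        ring
      rw [e, mul_smul] at this
      exact ((smul_right_injective V ha) this).symm
    have hT : ∀ i v, X (π i v) = π (i - (s : ZMod p)) (X v) := by
      intro i v
      have hv : v ∈ ⨆ i, E i := hEs ▸ Submodule.mem_top
      refine Submodule.iSup_induction E (motive := fun v => X (π i v) = π (i - (s : ZMod p)) (X v)) hv ?_ ?_ ?_
      · intro j w hw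
        rw [hπa i j w hw, hπa (i - (s : ZMod p)) (j - (s : ZMod p)) _ (hXE j w hw)]
        by_cases h : i = j
        · subst h; simp
        · rw [if_neg h, if_neg (fun e => h (sub_left_inj.mp e)), map_zero]
      · simp
      · intro x y hx hy; simp only [map_add, hx, hy]
    have hiter : ∀ (n : ℕ) (i : ZMod p), (fun i : ZMod p => i - (s : ZMod p))^[n] i = i - n * s := by
      intro n i
      induction n with
      | zero => simp
      | succ n ih => rw [Function.iterate_succ_apply', ih]; push_cast; ring
    have hk := finrank_ker_le_reps π hπ X (fun i => i - (s : ZMod p)) hT {0} (fun i => ⟨0, Finset.mem_singleton_self 0,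
      (-i / (s : ZMod p)).val, by
        rw [hiter, ZMod.natCast_zmod_val, div_mul_cancel₀ _ hs0]; ring⟩) d0 (fun i => (hdimr i).le)
    rw [Finset.card_singleton, one_mul] at hk
    rw [← hsum]
    nlinarith
  · subst ha1
    rw [one_smul] at hXU
    have hXE : ∀ j, ∀ v ∈ E j, X v ∈ E j := by
      intro j v hv
      rw [hmem] at hv ⊢
      have := LinearMap.congr_fun hXU v
      rw [Module.End.mul_apply, Module.End.mul_apply, hv, map_smul] at this
      exact this.symm
    have hT : ∀ i v, X (π i v) = π i (X v) := by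
      intro i v
      have hv : v ∈ ⨆ i, E i := hEs ▸ Submodule.mem_top
      refine Submodule.iSup_induction E (motive := fun v => X (π i v) = π i (X v)) hv ?_ ?_ ?_
      · intro j w hw
        rw [hπa i j w hw, hπa i j _ (hXE j w hw)]
        by_cases h : i = j
        · subst h; simp
        · rw [if_neg h, if_neg h, map_zero]
      · simp
      · intro x y hx hy; simp only [map_add, hx, hy]
    set E1 := Module.End.eigenspace X (1 : K) with hE1
    have hker : LinearMap.ker (X - 1) = E1 := by
      ext v; rw [LinearMap.mem_ker, LinearMap.sub_apply, sub_eq_zero, hE1, Module.End.mem_eigenspace_iff, one_smul, Module.End.one_apply]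
    -- the scalar by which `X` and the powers of `Y` commute
    have hcom : ∀ (n : ℕ) j, ∀ v ∈ E j,
        X ((Y ^ n) v) = (∏ t ∈ Finset.range n, lam η ω (j + ((t + 1 : ℕ) : ZMod p))) • (Y ^ n) (X v) := by
      intro n
      induction n with
      | zero => intro j v _; simp
      | succ n ih =>
        intro j v hv
        rw [pow_succ', Module.End.mul_apply, ← Module.End.mul_apply, hXY, Module.End.mul_apply,
          Module.End.mul_apply, ih j v hv, map_smul, map_smul,
          hmem.mp (hYE _ _ (hYE' n j _ (hXE j v hv))), Module.End.mul_apply, smul_smul,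
          Finset.prod_range_succ, add_assoc, Nat.cast_succ]
    obtain ⟨w0, hw0, hw0ne⟩ := (Submodule.ne_bot_iff _).mp (show E 0 ≠ ⊥ from fun h => by
      rw [hd0, h, finrank_bot] at hd0pos; exact lt_irrefl 0 hd0pos)
    set F : ℕ → K := fun n => ∏ t ∈ Finset.range n, lam η ω ((-(n : ZMod p)) + ((t + 1 : ℕ) : ZMod p)) with hF
    have hFp : F p = 1 := by
      have := hcom p 0 w0 hw0
      rw [hYp, LinearMap.smul_apply, LinearMap.smul_apply, Module.End.one_apply, Module.End.one_apply,
        map_smul, smul_smul] at this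
      have h2 : (κ - (∏ t ∈ Finset.range p, lam η ω (0 + ((t + 1 : ℕ) : ZMod p))) * κ) • X w0 = 0 := by
        rw [sub_smul, ← this, sub_self]
      have h3 := (smul_eq_zero.mp h2).resolve_right (fun e => hw0ne (hX (by rw [e, map_zero])))
      rw [hF]; simp only [ZMod.natCast_self, neg_zero]
      exact (mul_eq_right₀ hκ).mp (sub_eq_zero.mp h3).symm
    -- the exponent
    have hFval : ∀ n : ℕ, ∃ e : ℕ, F n = η ^ n * ω ^ e ∧
        (2 : ZMod p) * (e : ZMod p) = (n : ZMod p) - (n : ZMod p) * n := by
      intro n
      refine ⟨∑ t ∈ Finset.range n, ((-(n : ZMod p)) + ((t + 1 : ℕ) : ZMod p)).val, ?_, ?_⟩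
      · rw [hF]; simp only [lam, Finset.prod_mul_distrib, Finset.prod_const, Finset.card_range,
          Finset.prod_pow_eq_pow_sum]
      · push_cast
        simp only [ZMod.natCast_zmod_val, Finset.sum_add_distrib, Finset.sum_const, Finset.card_range,
          nsmul_eq_mul, mul_one]
        have hg : ((∑ i ∈ Finset.range n, i) * 2 : ℕ) + n = n * n := by
          rw [Finset.sum_range_id_mul_two]; cases n <;> simp [mul_add, Nat.mul_comm]
        have hg' := congrArg (fun a : ℕ => (a : ZMod p)) hg
        push_cast at hg'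
        linear_combination hg'
    have hηp : η ^ p = 1 := by
      obtain ⟨e, he, he2⟩ := hFval p
      rw [ZMod.natCast_self, mul_zero, sub_zero] at he2
      have h2 : (2 : ZMod p) ≠ 0 := by
        intro h
        have := (ZMod.natCast_eq_zero_iff _ _).mp (by exact_mod_cast h : ((2 : ℕ) : ZMod p) = 0)
        exact absurd (Nat.le_of_dvd two_pos this) (by omega)
      obtain ⟨q, rfl⟩ := (ZMod.natCast_eq_zero_iff _ _).mp ((mul_eq_zero.mp he2).resolve_left h2)
      rwa [hFp, pow_mul, hω.pow_eq_one, one_pow, mul_one, eq_comm] at he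
    obtain ⟨b, hb, hbη⟩ := hω.eq_pow_of_pow_eq_one hηp
    -- the eigenvalue attached to an eigenspace
    set μ : ZMod p → K := fun j => F (-j).val with hμ
    set g : K → ℕ := fun c => Module.finrank K (Module.End.eigenspace X c ⊓ E 0 : Submodule K V) with hg
    have hstep1 : Module.finrank K E1 ≤ ∑ j, g (μ j) := by
      have h1 : Module.finrank K E1 ≤ ∑ j, Module.finrank K (E1 ⊓ E j : Submodule K V) := by
        let f : E1 →ₗ[K] ((j : ZMod p) → (E1 ⊓ E j : Submodule K V)) := LinearMap.pi fun j =>
          LinearMap.codRestrict _ ((π j).comp E1.subtype) (fun v => ⟨by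
            change π j (v : V) ∈ Module.End.eigenspace X (1 : K)
            have hv : (v : V) ∈ Module.End.eigenspace X (1 : K) := v.2
            rw [Module.End.mem_eigenspace_iff, one_smul] at hv ⊢
            rw [hT, hv], hπr j ▸ LinearMap.mem_range_self _ _⟩)
        have hf : Function.Injective f := by
          intro v v' h
          apply Subtype.ext
          have := fun j => congrArg Subtype.val (congrFun h j)
          have e : ∀ w : V, w = ∑ j, π j w := fun w => by
            have := LinearMap.congr_fun hπ w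
            simpa using this.symm
          rw [e v, e v']
          exact Finset.sum_congr rfl fun j _ => this j
        have := LinearMap.finrank_le_finrank_of_injective hf
        rwa [Module.finrank_pi_fintype] at this
      refine h1.trans (Finset.sum_le_sum fun j _ => ?_)
      refine (Submodule.equivMapOfInjective (Y ^ (-j).val) (hYinj _) _).finrank_eq.trans_le
        (Submodule.finrank_mono ?_)
      rintro _ ⟨v, ⟨hv1, hv2⟩, rfl⟩
      refine ⟨?_, ?_⟩
      · rw [SetLike.mem_coe, Module.End.mem_eigenspace_iff, hcom _ j v hv2]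
        rw [SetLike.mem_coe, hE1, Module.End.mem_eigenspace_iff, one_smul] at hv1
        rw [hv1, hμ, hF]
        simp only [ZMod.natCast_zmod_val, neg_neg]
      · have := hYE' (-j).val j v hv2
        rwa [ZMod.natCast_zmod_val, add_neg_cancel] at this
    have hfib : ∀ c ∈ Finset.univ.image μ, (Finset.univ.filter fun j => μ j = c).card ≤ 2 := by
      intro c hc
      obtain ⟨j0, -, rfl⟩ := Finset.mem_image.mp hc
      refine (Finset.card_le_card (t := {j0, -(2 * (b : ZMod p) + 1) - j0}) ?_).trans Finset.card_le_two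
      intro j hj
      rw [Finset.mem_filter] at hj
      obtain ⟨e, he, he2⟩ := hFval (-j).val
      obtain ⟨e0, he0, he02⟩ := hFval (-j0).val
      have heq : F (-j).val = F (-j0).val := hj.2
      rw [he, he0, ← hbη, ← pow_mul, ← pow_mul, ← pow_add, ← pow_add,
        pow_eq_pow_mod _ hω.pow_eq_one, pow_eq_pow_mod (b * (-j0).val + e0) hω.pow_eq_one] at heq
      replace heq := (ZMod.natCast_eq_natCast_iff' _ _ p).mpr
        (hω.pow_inj (Nat.mod_lt _ hp.out.pos) (Nat.mod_lt _ hp.out.pos) heq)
      push_cast at heq he2 he02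
      simp only [ZMod.natCast_zmod_val] at heq he2 he02
      rcases two_values (by omega : p ≠ 2) (b : ZMod p) (-j0) (-j) (by linear_combination (-2 : ZMod p) * heq + he2 - he02) with h | h
      · exact Finset.mem_insert.mpr (Or.inl (neg_inj.mp h))
      · exact Finset.mem_insert.mpr (Or.inr (Finset.mem_singleton.mpr (by linear_combination -h)))
    have hstep2 : ∑ j, g (μ j) ≤ 2 * d0 := by
      rw [Finset.sum_comp g μ]
      refine (Finset.sum_le_sum fun c hc => Nat.mul_le_mul_right (g c) (hfib c hc)).trans ?_
      rw [← Finset.mul_sum, ← Finset.sum_coe_sort]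
      refine Nat.mul_le_mul_left 2 ?_
      refine sum_finrank_le (fun c : (Finset.univ.image μ : Finset K) => Module.End.eigenspace X (c : K) ⊓ E 0)
        (((Module.End.eigenspaces_iSupIndep X).comp Subtype.val_injective).mono fun c => inf_le_left) _
        fun c => inf_le_right
    rw [hker, ← hsum]
    have := hstep1.trans hstep2
    nlinarith

end CfsgLib.FixBound
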