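import Cfsg.Agent.Lib.FixBound.Eigen
import Cfsg.Agent.Lib.FixBound.Perm

/-!
The fixed space when a normal subgroup acts through a non-commutative group that is abelian modulo
scalars.
-/

set_option autoImplicit false

open scoped commutatorElement

namespace CfsgLib.FixBound

variable {G K V : Type*} [Group G] [Finite G] [Field K] [AddCommGroup V] [Module K V] [FiniteDimensional K V]

omit [FiniteDimensional K V] [Finite G] in
theorem smul_one_inj [Nontrivial V] {a b : K} (h : a • (1 : Module.End K V) = b • 1) : a = b := by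
  obtain ⟨v, hv⟩ := exists_ne (0 : V)
  have := LinearMap.congr_fun h v
  rw [LinearMap.smul_apply, LinearMap.smul_apply, Module.End.one_apply] at this
  exact smul_left_injective K hv this

/-- A sum of a nontrivial character over a finite group vanishes. -/
theorem sum_char_eq_zero {W : Type*} [CommGroup W] [Fintype W] (φ : W →* Kˣ) (hφ : φ ≠ 1) :
    ∑ w, ((φ w : Kˣ) : K) = 0 := by
  obtain ⟨w0, hw0⟩ : ∃ w0, φ w0 ≠ 1 := by
    by_contra h; push_neg at h; exact hφ (MonoidHom.ext h)
  have h1 : ((φ w0 : Kˣ) : K) * ∑ w, ((φ w : Kˣ) : K) = ∑ w, ((φ w : Kˣ) : K) := by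
    rw [Finset.mul_sum]
    exact Fintype.sum_equiv (Equiv.mulLeft w0) _ _ (fun w => by simp)
  have h2 : (((φ w0 : Kˣ) : K) - 1) * ∑ w, ((φ w : Kˣ) : K) = 0 := by rw [sub_mul, one_mul, h1, sub_self]
  exact (mul_eq_zero.mp h2).resolve_left (sub_ne_zero.mpr fun h => hw0 (Units.ext h))

/-- The operators commuting with `T` contain the maps from the cokernel to the kernel of `T - 1`
together with the scalars. -/
theorem sq_lt_centralizer (T T' : Module.End K V) (hT : T' * T = 1) (hT' : T * T' = 1) (hne : T ≠ 1) :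
    Module.finrank K (LinearMap.ker (T - 1)) ^ 2 + 1 ≤
      Module.finrank K (LinearMap.ker ((LinearMap.mulLeft K T).comp (LinearMap.mulRight K T') - 1)) := by
  set A := T - 1 with hA
  let Φ : ((V ⧸ LinearMap.range A) →ₗ[K] LinearMap.ker A) × K →ₗ[K]
      LinearMap.ker ((LinearMap.mulLeft K T).comp (LinearMap.mulRight K T') - 1) :=
    LinearMap.codRestrict _
      (((LinearMap.lcomp K V (LinearMap.range A).mkQ).comp
          ((LinearMap.ker A).subtype.compRight K)).comp (LinearMap.fst K _ _) +
        ((LinearMap.id : K →ₗ[K] K).smulRight (1 : Module.End K V)).comp (LinearMap.snd K _ _))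
      (fun fa => by
        obtain ⟨f, a⟩ := fa
        set Y : Module.End K V := ((LinearMap.ker A).subtype.comp f).comp (LinearMap.range A).mkQ with hY
        change Y + a • (1 : Module.End K V) ∈ LinearMap.ker ((LinearMap.mulLeft K T).comp (LinearMap.mulRight K T') - 1)
        have h1 : A * Y = 0 := LinearMap.ext fun v => (f ((LinearMap.range A).mkQ v)).2
        have h2 : Y * A = 0 := LinearMap.ext fun v => by
          change ((LinearMap.ker A).subtype (f ((LinearMap.range A).mkQ (A v)))) = 0
          rw [show (LinearMap.range A).mkQ (A v) = 0 from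
            (Submodule.Quotient.mk_eq_zero _).mpr (LinearMap.mem_range_self A v), map_zero, map_zero]
        have h3 : T * Y = Y := by rw [hA, sub_mul, one_mul, sub_eq_zero] at h1; exact h1
        have h4 : Y * T' = Y := by
          rw [hA, mul_sub, mul_one, sub_eq_zero] at h2
          conv_lhs => rw [← h2]
          rw [mul_assoc, hT', mul_one]
        rw [LinearMap.mem_ker, LinearMap.sub_apply, sub_eq_zero, LinearMap.comp_apply,
          LinearMap.mulLeft_apply, LinearMap.mulRight_apply, Module.End.one_apply]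
        rw [add_mul, mul_add, h4, h3, smul_mul_assoc, one_mul, mul_smul_comm, hT'])
  have hΦ : Function.Injective Φ := by
    rw [← LinearMap.ker_eq_bot, LinearMap.ker_eq_bot']
    rintro ⟨f, a⟩ hfa
    have h0 : ((LinearMap.ker A).subtype.comp f).comp (LinearMap.range A).mkQ + a • (1 : Module.End K V) = 0 :=
      congrArg Subtype.val hfa
    have ha : a = 0 := by
      obtain ⟨v, hv⟩ : ∃ v, A v ≠ 0 := by
        by_contra h; push_neg at h
        exact hne (sub_eq_zero.mp (LinearMap.ext h : A = 0))
      have := LinearMap.congr_fun h0 (A v)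
      simp only [LinearMap.add_apply, LinearMap.comp_apply, LinearMap.smul_apply, Module.End.one_apply,
        LinearMap.zero_apply, show (LinearMap.range A).mkQ (A v) = 0 from
          (Submodule.Quotient.mk_eq_zero _).mpr (LinearMap.mem_range_self A v), map_zero, zero_add] at this
      exact (smul_eq_zero.mp this).resolve_right hv
    subst ha
    rw [zero_smul, add_zero] at h0
    refine Prod.ext (LinearMap.ext fun q => ?_) rfl
    obtain ⟨v, rfl⟩ := (LinearMap.range A).mkQ_surjective q
    exact Subtype.ext (LinearMap.congr_fun h0 v)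
  have := LinearMap.finrank_le_finrank_of_injective hΦ
  rw [Module.finrank_prod, Module.finrank_linearMap, Module.finrank_self] at this
  have e : Module.finrank K (V ⧸ LinearMap.range A) = Module.finrank K (LinearMap.ker A) := by
    have h1 := (LinearMap.range A).finrank_quotient_add_finrank
    have h2 := A.finrank_range_add_finrank_ker
    omega
  rw [e] at this
  rwa [pow_two]

variable [IsAlgClosed K]

set_option maxHeartbeats 1600000 in
/-- The bound when a normal subgroup acts through a group abelian modulo scalars but not abelian. -/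
theorem two_mul_fix_lt_of_twisted [Group.IsSolvable G] [Nontrivial V] (ρ : Representation K G V)
    {x : G} {p : ℕ} (hp : p.Prime) (hp5 : 5 ≤ p) (hxp : x ^ p = 1)
    (hgen : Subgroup.normalClosure ({x} : Set G) = ⊤) (hx1 : ρ x ≠ 1)
    (N : Subgroup G) [hNn : N.Normal]
    (hnc : ¬ ∀ a ∈ N, ∀ b ∈ N, Commute (ρ a) (ρ b))
    (hmin : ∀ M : Subgroup G, M.Normal → M < N → ∀ m ∈ M, ∃ a : K, ρ m = a • 1) :
    2 * Module.finrank K (LinearMap.ker (ρ x - 1)) < Module.finrank K V := by
  classical
  haveI := Fact.mk hp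
  have hinvl : ∀ g : G, ρ g⁻¹ * ρ g = 1 := fun g => by rw [← map_mul, inv_mul_cancel, map_one]
  have hinvr : ∀ g : G, ρ g * ρ g⁻¹ = 1 := fun g => by rw [← map_mul, mul_inv_cancel, map_one]
  -- commutators are scalar
  have hNN : ⁅N, N⁆ < N := by
    refine lt_of_le_of_ne (Subgroup.commutator_le_self N) fun e => hnc ?_
    have hle : ∀ n, N ≤ derivedSeries G n := fun n => by
      induction n with
      | zero => exact le_top
      | succ n ih => rw [derivedSeries_succ]; exact e.ge.trans (Subgroup.commutator_mono ih ih)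
    obtain ⟨n, hn⟩ := (inferInstance : Group.IsSolvable G).solvable
    intro a ha b hb
    have : a = 1 := Subgroup.mem_bot.mp (hn ▸ hle n ha)
    rw [this, map_one]; exact Commute.one_left _
  have hβex : ∀ a b : N, ∃ β : Kˣ, ρ (a : G) * ρ (b : G) = (β : K) • (ρ (b : G) * ρ (a : G)) := by
    intro a b
    obtain ⟨c, hc⟩ := hmin _ inferInstance hNN _ (Subgroup.commutator_mem_commutator a.2 b.2)
    have hc0 : c ≠ 0 := by
      rintro rfl
      rw [zero_smul] at hc
      have := hinvl ⁅(a : G), (b : G)⁆
      rw [hc, mul_zero] at this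
      exact zero_ne_one this
    refine ⟨Units.mk0 c hc0, ?_⟩
    rw [← map_mul, show (a : G) * b = ⁅(a : G), (b : G)⁆ * ((b : G) * a) by
      rw [commutatorElement_def]; group, map_mul, hc, smul_mul_assoc, one_mul, map_mul, Units.val_mk0]
  choose β hβ using hβex
  have hβu : ∀ (a b : N) (c : K), ρ (a : G) * ρ (b : G) = c • (ρ (b : G) * ρ (a : G)) → (β a b : K) = c := by
    intro a b c hc
    have h : (β a b : K) • (1 : Module.End K V) = c • 1 := by
      have h1 := congrArg (fun T => T * (ρ (a : G)⁻¹ * ρ (b : G)⁻¹)) ((hβ a b).symm.trans hc)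
      simp only [smul_mul_assoc] at h1
      rwa [← mul_assoc, mul_assoc (ρ (b : G)) (ρ (a : G)), hinvr, mul_one, hinvr] at h1
    exact smul_one_inj h
  have hβmul : ∀ a b m : N, β (a * b) m = β a m * β b m := by
    intro a b m
    refine Units.ext (hβu _ _ _ ?_)
    rw [Subgroup.coe_mul, map_mul, mul_assoc, hβ b m, mul_smul_comm, ← mul_assoc, hβ a m, smul_mul_assoc,
      smul_smul, mul_assoc, Units.val_mul, mul_comm (β b m : K)]
  have hβsymm : ∀ a b : N, β b a = (β a b)⁻¹ := by
    intro a b
    refine Units.ext (hβu _ _ _ ?_)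
    rw [hβ a b, smul_smul, Units.inv_mul, one_smul]
  have hβmulr : ∀ a b m : N, β m (a * b) = β m a * β m b := by
    intro a b m; rw [hβsymm (a * b) m, hβmul, mul_inv, ← hβsymm, ← hβsymm]
  have hscal : ∀ (z : N) (c : K), ρ (z : G) = c • 1 → ∀ m : N, β z m = 1 := by
    intro z c hc m
    refine Units.ext (hβu _ _ _ ?_)
    rw [hc, Units.val_one, one_smul, smul_mul_assoc, one_mul, mul_smul_comm, mul_one]
  let bh : N →* (N →* Kˣ) :=
    { toFun := fun n => { toFun := fun m => β n m
                          map_one' := by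
                            have := hβmulr 1 1 n
                            rw [one_mul] at this
                            exact left_eq_mul.mp this
                          map_mul' := fun a b => hβmulr a b n }
      map_one' := MonoidHom.ext fun m => hscal 1 1 (by simp) m
      map_mul' := fun a b => MonoidHom.ext fun m => hβmul a b m }
  have hbh : ∀ n m, bh n m = β n m := fun _ _ => rfl
  -- conjugation
  let cj : G → N → N := fun g n => ⟨g * n * g⁻¹, hNn.conj_mem (n : G) n.2 g⟩
  have hβcj : ∀ g a b, β (cj g a) (cj g b) = β a b := by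
    intro g a b
    have e : ∀ u v : N, ρ (cj g u : G) * ρ (cj g v : G) = ρ g * (ρ (u : G) * ρ (v : G)) * ρ g⁻¹ := by
      intro u v
      rw [← map_mul, ← map_mul, ← map_mul, ← map_mul]
      congr 1
      simp [cj, mul_assoc]
    refine Units.ext (hβu _ _ _ ?_)
    rw [e, e, hβ a b, mul_smul_comm, smul_mul_assoc]
  -- the radical is scalar
  have hrad : ∀ n : N, bh n = 1 → ∃ a : K, ρ (n : G) = a • 1 := by
    intro n hn
    set R : Subgroup G := (MonoidHom.ker bh).map N.subtype with hR
    haveI : R.Normal := ⟨fun r hr g => by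
      obtain ⟨r', hr', rfl⟩ := hr
      refine ⟨cj g r', MonoidHom.ext fun m => ?_, rfl⟩
      have : m = cj g (cj g⁻¹ m) := Subtype.ext (by simp [cj, mul_assoc])
      rw [hbh, this, hβcj, ← hbh, show bh r' = 1 from hr']; rfl⟩
    refine hmin R inferInstance (lt_of_le_of_ne (Subgroup.map_subtype_le _) fun e => hnc ?_) _ ⟨n, hn, rfl⟩
    intro a ha b hb
    obtain ⟨a', ha', e'⟩ := e.ge ha
    have h := hβ a' ⟨b, hb⟩
    rw [← hbh, show bh a' = 1 from ha', MonoidHom.one_apply, Units.val_one, one_smul] at h
    change (a' : G) = a at e'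
    rw [e'] at h
    exact h
  -- the exponent
  obtain ⟨a0, ha0⟩ : ∃ a : N, bh a ≠ 1 := by
    by_contra h; push_neg at h
    exact hnc fun a ha b hb => by
      have := hβ ⟨a, ha⟩ ⟨b, hb⟩
      rwa [← hbh, h, MonoidHom.one_apply, Units.val_one, one_smul] at this
  let W := bh.range
  haveI : Fintype W := Fintype.ofFinite W
  letI : CommGroup W := inferInstance
  set q := (orderOf (bh a0)).minFac with hqdef
  have hq : q.Prime := Nat.minFac_prime (fun e => ha0 (orderOf_eq_one_iff.mp e))
  haveI := Fact.mk hq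
  have hexp : ∀ n, bh n ^ q = 1 := by
    set T : Subgroup G := ((powMonoidHom q).comp bh).ker.map N.subtype with hT
    haveI : T.Normal := ⟨fun r hr g => by
      obtain ⟨r', hr', rfl⟩ := hr
      refine ⟨cj g r', MonoidHom.ext fun m => ?_, rfl⟩
      have hm : m = cj g (cj g⁻¹ m) := Subtype.ext (by simp [cj, mul_assoc])
      have h1 : (bh r' ^ q) (cj g⁻¹ m) = 1 := by rw [show bh r' ^ q = 1 from hr']; rfl
      change (bh (cj g r') ^ q) m = 1
      rw [MonoidHom.pow_apply] at h1 ⊢
      rwa [hm, hbh, hβcj, ← hbh]⟩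
    have hTN : T = N := by
      refine (Subgroup.map_subtype_le _).eq_or_lt.resolve_right fun hlt => ?_
      set k := orderOf (bh a0) / q
      have hpos : 0 < orderOf (bh a0) := (bh.isOfFinOrder (isOfFinOrder_of_finite a0)).orderOf_pos
      have hk : k < orderOf (bh a0) := Nat.div_lt_self hpos hq.one_lt
      have hkpos : k ≠ 0 := (Nat.div_pos (Nat.minFac_le hpos) hq.pos).ne'
      obtain ⟨c, hc⟩ := hmin T inferInstance hlt (a0 ^ k : N) ⟨a0 ^ k, by
        change (bh (a0 ^ k)) ^ q = 1
        rw [map_pow, ← pow_mul, Nat.div_mul_cancel (Nat.minFac_dvd _), pow_orderOf_eq_one], rfl⟩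
      refine pow_ne_one_of_lt_orderOf hkpos hk ?_
      rw [← map_pow]
      exact MonoidHom.ext fun m => hscal _ c hc m
    intro n
    obtain ⟨n', hn', e⟩ := hTN.ge n.2
    rw [← Subtype.ext e]; exact hn'
  have hWp : IsPGroup q W := fun w => ⟨1, by
    obtain ⟨_, n, rfl⟩ := w
    exact Subtype.ext (by rw [pow_one]; exact hexp n)⟩
  have hqK : (q : K) ≠ 0 := by
    intro h
    haveI : CharP K q := (CharP.charP_iff_prime_eq_zero hq).mpr h
    refine ha0 (MonoidHom.ext fun m => Units.ext ?_)
    have h1 : ((bh a0 m : Kˣ) : K) ^ q = 1 ^ q := by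
      rw [one_pow, ← Units.val_pow_eq_pow_val, ← MonoidHom.pow_apply, hexp, MonoidHom.one_apply, Units.val_one]
    rw [MonoidHom.one_apply, Units.val_one]
    exact frobenius_inj K q h1
  obtain ⟨nW, hnW⟩ := IsPGroup.iff_card.mp hWp
  have hcardK : (Fintype.card W : K) ≠ 0 := by
    rw [← Nat.card_eq_fintype_card, hnW, Nat.cast_pow]; exact pow_ne_zero _ hqK
  -- the action of `x` on `W`
  let c' : N →* N := ((MulAut.conjNormal x⁻¹ : MulAut N)).toMonoidHom
  have hc' : ∀ m : N, ((c' m : N) : G) = x⁻¹ * m * x := fun m => by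
    change ((MulAut.conjNormal x⁻¹ m : N) : G) = _
    rw [MulAut.conjNormal_apply, inv_inv]
  have hσn : ∀ n : N, (bh n).comp c' = bh (cj x n) := by
    intro n; ext m
    have hm : m = cj x (c' m) := Subtype.ext (by simp [cj, hc', mul_assoc])
    rw [MonoidHom.comp_apply, hbh, hbh]
    conv_rhs => rw [hm, hβcj]
  let σ : W →* W :=
    { toFun := fun w => ⟨(w : N →* Kˣ).comp c', by
        obtain ⟨_, n, rfl⟩ := w
        exact ⟨cj x n, (hσn n).symm⟩⟩
      map_one' := Subtype.ext (MonoidHom.ext fun _ => rfl)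
      map_mul' := fun _ _ => Subtype.ext (MonoidHom.ext fun _ => rfl) }
  have hσiter : ∀ (n : ℕ) (w : W) (m : N), ((σ^[n] w : W) : N →* Kˣ) m = (w : N →* Kˣ) (c'^[n] m) := by
    intro n
    induction n with
    | zero => intro w m; rfl
    | succ n ih => intro w m; rw [Function.iterate_succ_apply, ih, Function.iterate_succ_apply']; rfl
  have hc'iter : ∀ (n : ℕ) (m : N), ((c'^[n] m : N) : G) = (x ^ n)⁻¹ * m * x ^ n := by
    intro n m
    induction n with
    | zero => simp
    | succ n ih => rw [Function.iterate_succ_apply', hc', ih, pow_succ]; group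
  have hσp : ∀ w, σ^[p] w = w := fun w => Subtype.ext (MonoidHom.ext fun m => by
    rw [hσiter]
    congr 1
    exact Subtype.ext (by rw [hc'iter, hxp]; simp))
  -- the pairing and the projections on the endomorphisms
  choose s hs using fun w : W => w.2
  have hwd : ∀ (w : W) (n n' : N), bh n = bh n' → (w : N →* Kˣ) n = (w : N →* Kˣ) n' := by
    rintro ⟨_, k, rfl⟩ n n' h
    rw [hbh, hbh, hβsymm n k, hβsymm n' k, ← hbh, h, hbh]
  have hsmul : ∀ a b : W, bh (s (a * b)) = bh (s a * s b) := fun a b => by
    rw [hs, map_mul, hs, hs]; rfl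
  let chi : W → W →* Kˣ := fun w =>
    { toFun := fun a => (w : N →* Kˣ) (s a)
      map_one' := by rw [hwd w (s 1) 1 (by rw [hs, map_one]; rfl), map_one]
      map_mul' := fun a b => by rw [hwd w _ _ (hsmul a b), map_mul] }
  let Ad : N → Module.End K (Module.End K V) := fun m =>
    (LinearMap.mulLeft K (ρ (m : G))).comp (LinearMap.mulRight K (ρ (m : G)⁻¹))
  have hAd : ∀ m X, Ad m X = ρ (m : G) * X * ρ (m : G)⁻¹ := fun m X => by
    simp [Ad, mul_assoc]
  have hAdeq : ∀ n n' : N, bh n = bh n' → Ad n = Ad n' := by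
    intro n n' h
    obtain ⟨c, hc⟩ := hrad (n * n'⁻¹) (by rw [map_mul, map_inv, h, mul_inv_cancel])
    have hn : ρ (n : G) = c • ρ (n' : G) := by
      rw [show (n : G) = ((n * n'⁻¹ : N) : G) * n' by simp, map_mul, hc, smul_mul_assoc, one_mul]
    refine LinearMap.ext fun X => ?_
    rw [hAd, hAd]
    have hinv : ρ (n : G)⁻¹ * c • (1 : Module.End K V) = ρ (n' : G)⁻¹ := by
      calc ρ (n : G)⁻¹ * c • (1 : Module.End K V) = ρ (n : G)⁻¹ * (c • (ρ (n' : G) * ρ (n' : G)⁻¹)) := by rw [hinvr]
        _ = ρ (n : G)⁻¹ * (ρ (n : G) * ρ (n' : G)⁻¹) := by rw [hn, smul_mul_assoc]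
        _ = _ := by rw [← mul_assoc, hinvl, one_mul]
    rw [← hinv, hn]
    simp only [smul_mul_assoc, mul_smul_comm, mul_one]
  have hAdmul : ∀ m m', Ad (m * m') = Ad m * Ad m' := fun m m' => LinearMap.ext fun X => by
    rw [Module.End.mul_apply, hAd, hAd, hAd, Subgroup.coe_mul, map_mul, mul_inv_rev, map_mul]
    simp only [mul_assoc]
  let P : W → Module.End K (Module.End K V) := fun w =>
    (Fintype.card W : K)⁻¹ • ∑ a : W, ((chi w a : Kˣ) : K) • Ad (s a)
  let E : W → Submodule K (Module.End K V) := fun w =>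
    ⨅ m : N, Module.End.eigenspace (Ad m) ((((w : N →* Kˣ) m)⁻¹ : Kˣ) : K)
  have hE : ∀ w X, X ∈ E w ↔ ∀ m, Ad m X = ((((w : N →* Kˣ) m)⁻¹ : Kˣ) : K) • X := fun w X => by
    simp [E]
  have hPmem : ∀ w X, P w X ∈ E w := by
    intro w X
    rw [hE]
    intro m
    set b : W := ⟨bh m, m, rfl⟩
    have hbm : bh (s b) = bh m := hs b
    rw [← hAdeq _ _ hbm, ← hwd w _ _ hbm]
    simp only [P, LinearMap.smul_apply, LinearMap.coe_sum, Finset.sum_apply, map_smul, map_sum]
    rw [smul_comm ((((w : N →* Kˣ) (s b))⁻¹ : Kˣ) : K)]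
    congr 1
    rw [Finset.smul_sum]
    refine Fintype.sum_equiv (Equiv.mulLeft b) _ _ fun a => ?_
    rw [Equiv.coe_mulLeft, smul_smul, map_mul, Units.val_mul,
      show (chi w b : Kˣ) = (w : N →* Kˣ) (s b) from rfl, ← mul_assoc, Units.inv_mul, one_mul,
      hAdeq _ _ (hsmul b a), hAdmul, Module.End.mul_apply]
  have hPval : ∀ w v X, X ∈ E v → P w X = if w = v then X else 0 := by
    intro w v X hX
    simp only [P, LinearMap.smul_apply, LinearMap.coe_sum, Finset.sum_apply, (hE v X).mp hX, smul_smul,
      ← Finset.sum_smul, ← Units.val_mul]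
    by_cases h : w = v
    · subst h
      rw [if_pos rfl]
      simp [chi, smul_smul, hcardK]
    · rw [if_neg h]
      have : ∑ a, ((chi w a * ((v : N →* Kˣ) (s a))⁻¹ : Kˣ) : K) = 0 := by
        have hne : chi w * (chi v)⁻¹ ≠ 1 := by
          intro e
          apply h
          refine Subtype.ext (MonoidHom.ext fun m => ?_)
          set b : W := ⟨bh m, m, rfl⟩
          rw [hwd w m (s b) (hs b).symm, hwd v m (s b) (hs b).symm]
          have := DFunLike.congr_fun e b
          rw [MonoidHom.mul_apply, MonoidHom.inv_apply, MonoidHom.one_apply, mul_inv_eq_one] at this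
          exact this
        simpa [chi] using sum_char_eq_zero _ hne
      rw [this, mul_zero, zero_smul]
  have hPsum : ∑ w, P w = 1 := by
    simp only [P, ← Finset.smul_sum]
    rw [Finset.sum_comm]
    simp only [← Finset.sum_smul]
    rw [Finset.sum_eq_single 1]
    · simp only [map_one, Units.val_one, Finset.sum_const, Finset.card_univ, nsmul_eq_mul, mul_one]
      rw [hAdeq (s 1) 1 (by rw [hs, map_one]; rfl), smul_smul, inv_mul_cancel₀ hcardK, one_smul]
      refine LinearMap.ext fun X => ?_
      rw [hAd]; simp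
    · intro a _ ha
      let φ : W →* Kˣ :=
        { toFun := fun w => (w : N →* Kˣ) (s a), map_one' := rfl, map_mul' := fun _ _ => rfl }
      have hne : φ ≠ 1 := by
        intro e
        apply ha
        refine Subtype.ext (MonoidHom.ext fun m => ?_)
        have := DFunLike.congr_fun e ⟨bh m, m, rfl⟩
        change β m (s a) = 1 at this
        rw [← hs a, hbh, hβsymm m, this, inv_one]
        rfl
      have := sum_char_eq_zero φ hne
      rw [show (∑ w : W, ((chi w a : Kˣ) : K)) = 0 from this, zero_smul]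
    · exact fun h => absurd (Finset.mem_univ _) h
  have hP0 : ∀ w v, w ≠ v → P w * P v = 0 := fun w v h => LinearMap.ext fun X => by
    rw [Module.End.mul_apply, hPval w v _ (hPmem v X), if_neg h]; rfl
  have hrange : ∀ w, LinearMap.range (P w) = E w := fun w => le_antisymm
    (fun _ ⟨X, hX⟩ => hX ▸ hPmem w X) (fun X hX => ⟨X, by rw [hPval w w X hX, if_pos rfl]⟩)
  -- all components have the same dimension
  have hshift : ∀ (k : N) (w v : W) (X : Module.End K V), (v : N →* Kˣ) = bh k * (w : N →* Kˣ) → X ∈ E w →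
      ρ (k : G) * X ∈ E v := by
    intro k w v X hv hX
    rw [hE] at hX ⊢
    intro m
    rw [hv, MonoidHom.mul_apply, hbh, mul_inv, Units.val_mul, ← hβsymm k m]
    have h := hX m
    rw [hAd] at h ⊢
    rw [← mul_assoc (ρ (m : G)), hβ m k, smul_mul_assoc, smul_mul_assoc,
      mul_assoc (ρ (k : G)), mul_assoc (ρ (k : G)), h, mul_smul_comm, smul_smul]
  set c := Module.finrank K (E 1) with hcdef
  have hdim : ∀ w, Module.finrank K (LinearMap.range (P w)) = c := by
    intro w
    rw [hrange]
    have hle : ∀ (k : N) (w v : W), (v : N →* Kˣ) = bh k * (w : N →* Kˣ) →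
        Module.finrank K (E w) ≤ Module.finrank K (E v) := by
      intro k w v hv
      refine LinearMap.finrank_le_finrank_of_injective (f := ((LinearMap.mulLeft K (ρ (k : G))).comp
        (E w).subtype).codRestrict (E v) (fun X => hshift k w v X hv X.2)) fun X Y h => ?_
      have h' : ρ (k : G) * (X : Module.End K V) = ρ (k : G) * (Y : Module.End K V) := congrArg Subtype.val h
      have h'' := congrArg (fun Z => ρ (k : G)⁻¹ * Z) h'
      simp only [← mul_assoc, hinvl, one_mul] at h''
      exact Subtype.ext h''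
    refine le_antisymm (hle (s w)⁻¹ w 1 ?_) (hle (s w) 1 w ?_)
    · rw [map_inv, hs, inv_mul_cancel]; rfl
    · rw [hs]; exact (mul_one _).symm
  have hsum := sum_finrank_range P hPsum hP0
  simp only [hdim, Finset.sum_const, Finset.card_univ, smul_eq_mul, Module.finrank_linearMap] at hsum
  -- the operator on endomorphisms
  set T : Module.End K (Module.End K V) :=
    (LinearMap.mulLeft K (ρ x)).comp (LinearMap.mulRight K (ρ x⁻¹)) with hTdef
  have hT : ∀ w X, T (P w X) = P (σ w) (T X) := by
    have hmapE : ∀ w, ∀ X ∈ E w, T X ∈ E (σ w) := by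
      intro w X hX
      rw [hE] at hX ⊢
      intro m
      have h := hX (c' m)
      rw [hAd] at h ⊢
      simp only [T, LinearMap.comp_apply, LinearMap.mulLeft_apply, LinearMap.mulRight_apply]
      change _ = (((((w : N →* Kˣ) (c' m))⁻¹ : Kˣ)) : K) • _
      have hcancel : ∀ (g : G) (Y : Module.End K V), ρ g * (ρ g⁻¹ * Y) = Y := fun g Y => by
        rw [← mul_assoc, hinvr, one_mul]
      rw [← mul_smul_comm, ← smul_mul_assoc, ← h, hc']
      simp only [map_mul, mul_inv_rev, inv_inv, mul_assoc, hinvr, mul_one, hcancel]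
    intro w X
    have hX : X = ∑ v, P v X := by
      have := LinearMap.congr_fun hPsum X
      simpa using this.symm
    rw [hX]
    simp only [map_sum]
    refine Finset.sum_congr rfl fun v _ => ?_
    rw [hPval w v _ (hPmem v X), hPval (σ w) (σ v) _ (hmapE v _ (hPmem v X))]
    by_cases h : w = v
    · subst h; simp
    · rw [if_neg h, if_neg ?_, map_zero]
      intro e
      apply h
      have := congrArg σ^[p - 1] e
      rwa [← Function.iterate_succ_apply, ← Function.iterate_succ_apply, Nat.succ_eq_add_one,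
        Nat.sub_add_cancel hp.pos, hσp, hσp] at this
  obtain ⟨R, hR, hRcard⟩ := exists_reps hp σ hσp
  have hker := finrank_ker_le_reps P hPsum T σ hT R hR c (fun w => (hdim w).le)
  have hsq := sq_lt_centralizer (ρ x) (ρ x⁻¹) (hinvl x) (hinvr x) hx1
  -- the fixed subgroup
  set F : Subgroup W := MonoidHom.eqLocus σ (MonoidHom.id W) with hF
  have hFcard : Nat.card {w : W // σ w = w} = Nat.card F := rfl
  rw [hFcard] at hRcard
  have hFN : ∀ w, w ∈ F ↔ σ w = w := fun _ => Iff.rfl
  set i := F.index with hi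
  have hki : Nat.card F * i = Nat.card W := Subgroup.card_mul_index F
  obtain ⟨j, hj⟩ : ∃ j, i = q ^ j := by
    obtain ⟨j, -, hj⟩ := (Nat.dvd_prime_pow hq).mp (hnW ▸ F.index_dvd_card)
    exact ⟨j, hj⟩
  -- the centraliser of the quotient is proper
  have hjne : j ≠ 0 := by
    intro h0
    have hall : ∀ w, σ w = w := fun w => (hFN w).mp (Subgroup.index_eq_one.mp (by rw [← hi, hj, h0, pow_zero]) ▸ Subgroup.mem_top w)
    have hfixG : ∀ (g : G) (n : N), bh (cj g n) = bh n := by
      let S : Subgroup G :=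
        { carrier := {g | ∀ n : N, bh (cj g n) = bh n}
          one_mem' := fun n => congrArg bh (Subtype.ext (by simp [cj]))
          mul_mem' := fun {a b} ha hb n => by
            rw [show cj (a * b) n = cj a (cj b n) from Subtype.ext (by simp [cj, mul_assoc]), ha, hb]
          inv_mem' := fun {a} ha n => by
            have := ha (cj a⁻¹ n)
            rw [show cj a (cj a⁻¹ n) = n from Subtype.ext (by simp [cj, mul_assoc])] at this
            exact this.symm }
      haveI : S.Normal := ⟨fun a ha g n => by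
        rw [show cj (g * a * g⁻¹) n = cj g (cj a (cj g⁻¹ n)) from Subtype.ext (by simp [cj, mul_assoc])]
        ext m
        have hm : m = cj g (cj g⁻¹ m) := Subtype.ext (by simp [cj, mul_assoc])
        rw [hm, hbh, hbh, hβcj, ← hbh, ha, hbh, ← hβcj g (cj g⁻¹ n),
          show cj g (cj g⁻¹ n) = n from Subtype.ext (by simp [cj, mul_assoc])]⟩
      have hxS : x ∈ S := fun n => by
        rw [← hσn]
        exact congrArg Subtype.val (hall ⟨bh n, n, rfl⟩)
      intro g
      exact (hgen ▸ Subgroup.normalClosure_le_normal (Set.singleton_subset_iff.mpr hxS) : (⊤ : Subgroup G) ≤ S) trivial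
    let T' : Subgroup G := ((Subgroup.zpowers (bh a0)).comap bh).map N.subtype
    haveI : T'.Normal := ⟨fun r hr g => by
      obtain ⟨r', hr', rfl⟩ := hr
      exact ⟨cj g r', Subgroup.mem_comap.mpr (by rw [hfixG]; exact hr'), rfl⟩⟩
    rcases (Subgroup.map_subtype_le _ : T' ≤ N).eq_or_lt with e | e
    · apply hnc
      intro a ha b hb
      obtain ⟨a', ha', ea⟩ := e.ge ha
      obtain ⟨b', hb', eb⟩ := e.ge hb
      change (a' : G) = a at ea
      change (b' : G) = b at eb
      obtain ⟨m, hm⟩ := Subgroup.mem_zpowers_iff.mp ha'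
      obtain ⟨l, hl⟩ := Subgroup.mem_zpowers_iff.mp hb'
      have hself : β a0 a0 = 1 := Units.ext (hβu _ _ _ (by rw [Units.val_one, one_smul]))
      have : β a' b' = 1 := by
        rw [← hbh, ← hm, MonoidHom.zpow_apply, hbh, hβsymm b' a0, ← hbh, ← hl, MonoidHom.zpow_apply, hbh,
          hself, one_zpow, inv_one, one_zpow]
      have h := hβ a' b'
      rw [this, Units.val_one, one_smul, ea, eb] at h
      exact h
    · obtain ⟨z, hz⟩ := hmin T' inferInstance e a0 ⟨a0, Subgroup.mem_zpowers (bh a0), rfl⟩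
      exact ha0 (MonoidHom.ext fun m => hscal a0 z hz m)
  -- the general case
  by_cases hj1 : j = 1
  swap
  · set e := Module.finrank K (LinearMap.ker (ρ x - 1))
    set f := Nat.card F
    set d := Module.finrank K V
    by_contra hcon
    push_neg at hcon
    have hcongr : q ≠ p → p ∣ i - 1 := by
      intro hqp
      have h : Nat.card W ≡ f [MOD p] := by
        let σe : Function.End W := fun w => σ w
        have hpow : ∀ (n : ℕ) (w : W), (σe ^ n) w = σ^[n] w := by
          intro n
          induction n with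
          | zero => intro w; rfl
          | succ n ih => intro w; rw [pow_succ', Function.iterate_succ_apply', ← ih w]; rfl
        have hσe : σe ^ p ^ 1 = 1 := by
          rw [pow_one]
          exact funext fun w => (hpow p w).trans (hσp w)
        have := Equiv.Perm.card_fixedPoints_modEq hσe
        rw [← Nat.card_eq_fintype_card, ← Nat.card_eq_fintype_card] at this
        exact this
      rw [← hki] at h
      have h1 : f * i ≡ f * 1 [MOD p] := by rwa [mul_one]
      have hf0 : 0 < f := Nat.card_pos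
      have hi0 : 1 ≤ i := hj ▸ Nat.one_le_pow _ _ hq.pos
      have h2 : p ∣ f * i - f * 1 := (Nat.modEq_iff_dvd' (Nat.mul_le_mul_left f hi0)).mp h1.symm
      rw [← Nat.mul_sub] at h2
      refine ((Nat.Prime.dvd_mul hp).mp h2).resolve_left fun hd => hqp ?_
      have hdiv : f ∣ q ^ nW := hnW ▸ F.card_subgroup_dvd_card
      exact ((Nat.prime_dvd_prime_iff_eq hp hq).mp (hp.dvd_of_dvd_pow (hd.trans hdiv))).symm
    have hibig : 4 * (p - 1) ≤ i * (p - 4) := by
      have hi4 : q ^ 2 ≤ i := hj ▸ Nat.pow_le_pow_right hq.pos (by omega)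
      have h2q := hq.two_le
      by_cases hqp : q = p
      · subst hqp
        obtain ⟨r, hr⟩ : ∃ r, q = r + 5 := ⟨q - 5, by omega⟩
        rw [hr, show r + 5 - 1 = r + 4 by omega, show r + 5 - 4 = r + 1 by omega]
        rw [hr] at hi4
        nlinarith
      obtain ⟨t, ht⟩ := hcongr hqp
      have ht0 : 1 ≤ t := by
        rcases Nat.eq_zero_or_pos t with rfl | h
        · have : 4 ≤ i := le_trans (by nlinarith) hi4
          omega
        · exact h
      rcases Nat.lt_or_ge p 7 with h7 | h7
      · have hp5' : p = 5 := by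
          rcases Nat.lt_or_ge p 6 with h | h
          · omega
          · interval_cases p; exact absurd hp (by norm_num)
        subst hp5'
        have : 16 ≤ i := by
          by_contra hlt
          have hdvd : q ∣ i := hj ▸ dvd_pow_self q hjne
          have hit : i = 6 ∨ i = 11 := by omega
          rcases hit with hi6 | hi11
          · have h2 : 2 ∣ i := by omega
            have h3 : 3 ∣ i := by omega
            rw [hj] at h2 h3
            have := (Nat.prime_dvd_prime_iff_eq Nat.prime_two hq).mp (Nat.prime_two.dvd_of_dvd_pow h2)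
            have := (Nat.prime_dvd_prime_iff_eq Nat.prime_three hq).mp (Nat.prime_three.dvd_of_dvd_pow h3)
            omega
          · rw [hi11] at hdvd hi4
            rcases (Nat.dvd_prime (by norm_num : Nat.Prime 11)).mp hdvd with h | h
            · omega
            · rw [h] at hi4; norm_num at hi4
        omega
      · have h8 : p + 1 ≤ i := by
          have := Nat.le_mul_of_pos_right p ht0
          omega
        obtain ⟨r, hr⟩ : ∃ r, p = r + 7 := ⟨p - 7, by omega⟩
        rw [hr, show r + 7 - 1 = r + 6 by omega, show r + 7 - 4 = r + 3 by omega]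
        rw [hr] at h8
        nlinarith
    have h1 : p * (e ^ 2 + 1) ≤ p * (R.card * c) := Nat.mul_le_mul_left p (hsq.trans hker)
    have h2 : p * R.card * c ≤ (Nat.card W + (p - 1) * f) * c := Nat.mul_le_mul_right c hRcard
    rw [← Nat.card_eq_fintype_card] at hsum
    have h3 : 4 * ((p - 1) * f) * c ≤ (i * (p - 4)) * f * c := by
      rw [← mul_assoc 4]
      exact Nat.mul_le_mul_right c (Nat.mul_le_mul_right f hibig)
    obtain ⟨r, hr⟩ : ∃ r, p = r + 4 := ⟨p - 4, by omega⟩
    rw [show p - 4 = r by omega] at h3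
    rw [← hki] at h2 hsum
    have h4 : d * d ≤ 4 * (e * e) := by nlinarith [Nat.mul_le_mul hcon hcon]
    have h5 : p * (d * d + 4) ≤ p * (d * d) := by
      calc p * (d * d + 4) ≤ p * (4 * (e ^ 2 + 1)) := Nat.mul_le_mul_left p (by rw [pow_two]; omega)
        _ = 4 * (p * (e ^ 2 + 1)) := by ring
        _ ≤ 4 * ((f * i + (p - 1) * f) * c) := Nat.mul_le_mul_left 4 (h1.trans ((mul_assoc p _ c).symm.le.trans h2))
        _ = 4 * (f * i * c) + 4 * ((p - 1) * f) * c := by ring
        _ ≤ 4 * (f * i * c) + i * r * f * c := Nat.add_le_add_left h3 _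
        _ = p * (d * d) := by rw [← hsum, hr]; ring
    have := Nat.le_of_mul_le_mul_left h5 hp.pos
    omega
  -- the case of a hyperplane
  subst hj1
  rw [pow_one] at hj
  obtain ⟨w0, hw0⟩ : ∃ w0, w0 ∉ F := by
    by_contra h; push_neg at h
    have : F = ⊤ := (Subgroup.eq_top_iff' F).mpr h
    rw [this, Subgroup.index_top] at hi
    exact hq.one_lt.ne (hi.symm.trans hj)
  set y := s w0 with hy
  set nu : N := cj x y * y⁻¹ with hnu
  have hnu' : bh nu = (σ w0 : W) * ((w0 : W) : N →* Kˣ)⁻¹ := by
    rw [hnu, map_mul, map_inv, ← hσn, hy, hs]; rfl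
  have hperp : ∀ w ∈ F, (w : N →* Kˣ) nu = 1 := by
    intro w hw
    have h1 : (w : N →* Kˣ) (cj x y) = (w : N →* Kˣ) y := by
      conv_lhs => rw [← show σ w = w from (hFN w).mp hw]
      change (w : N →* Kˣ) (c' (cj x y)) = _
      congr 1
      exact Subtype.ext (by simp [cj, hc', mul_assoc])
    rw [hnu, map_mul, map_inv, h1, mul_inv_cancel]
  have hFmax : ∀ w ∉ F, F ⊔ Subgroup.zpowers w = ⊤ := by
    intro w hw
    have hlt : F < F ⊔ Subgroup.zpowers w := lt_of_le_of_ne le_sup_left fun e =>
      hw (e.ge (Subgroup.mem_sup_right (Subgroup.mem_zpowers w)))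
    have h := Subgroup.relIndex_mul_index hlt.le
    rw [← hi, hj] at h
    rcases (Nat.dvd_prime hq).mp ⟨_, h.symm⟩ with e | e
    · exact absurd (Subgroup.relIndex_eq_one.mp e) hlt.not_ge
    · rw [e] at h
      exact Subgroup.index_eq_one.mp (mul_eq_left₀ hq.ne_zero |>.mp h)
  set u : W := σ w0 * w0⁻¹ with hu
  have hu1 : u ≠ 1 := fun e => hw0 ((hFN w0).mpr (mul_inv_eq_one.mp e))
  have hker_u : ∀ (w : W), w ∉ F → (w : N →* Kˣ) nu = 1 → False := by
    intro w hw h1
    let S : Subgroup W :=
      { carrier := {v | (v : N →* Kˣ) nu = 1}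
        one_mem' := rfl
        mul_mem' := fun {a b} ha hb => show (a : N →* Kˣ) nu * (b : N →* Kˣ) nu = 1 by
          rw [show (a : N →* Kˣ) nu = 1 from ha, show (b : N →* Kˣ) nu = 1 from hb, one_mul]
        inv_mem' := fun {a} ha => show ((a : N →* Kˣ) nu)⁻¹ = 1 by rw [show (a : N →* Kˣ) nu = 1 from ha, inv_one] }
    have htop : (⊤ : Subgroup W) ≤ S := hFmax w hw ▸ sup_le hperp ((Subgroup.zpowers_le).mpr h1)
    apply hu1
    refine Subtype.ext (MonoidHom.ext fun m => ?_)
    have := htop (Subgroup.mem_top (⟨bh m, m, rfl⟩ : W))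
    change β m nu = 1 at this
    change ((σ w0 : W) * ((w0 : W) : N →* Kˣ)⁻¹) m = 1
    rw [← hnu', hbh, hβsymm m nu, this, inv_one]
  have huF : u ∈ F := by
    by_contra h
    refine hker_u u h ?_
    change ((σ w0 : W) * ((w0 : W) : N →* Kˣ)⁻¹) nu = 1
    rw [← hnu', hbh]
    exact Units.ext (hβu _ _ _ (by rw [Units.val_one, one_smul]))
  have hqp : q = p := by
    have hσn' : ∀ n : ℕ, σ^[n] w0 = u ^ n * w0 := by
      intro n
      induction n with
      | zero => simp
      | succ n ih =>
        rw [Function.iterate_succ_apply', ih, map_mul, map_pow, (hFN u).mp huF, pow_succ, mul_assoc, hu,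
          inv_mul_cancel_right]
    have hup : u ^ p = 1 := by
      have := hσn' p
      rwa [hσp, right_eq_mul] at this
    have huq : u ^ q = 1 := Subtype.ext (by
      rw [SubgroupClass.coe_pow, show ((u : W) : N →* Kˣ) = bh nu from hnu'.symm]
      exact hexp nu)
    rw [← orderOf_eq_prime huq hu1, orderOf_eq_prime hup hu1]
  subst hqp
  set ω : K := ((β nu y : Kˣ) : K) with hω
  have hω1 : β nu y ≠ 1 := by
    intro e
    refine hker_u w0 hw0 ?_
    rw [← hs w0, ← hy, hbh, hβsymm nu y, e, inv_one]
  have hωp : IsPrimitiveRoot ω q := by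
    have h : (β nu y) ^ q = 1 := by rw [← hbh, ← MonoidHom.pow_apply, hexp]; rfl
    have h2 := IsPrimitiveRoot.orderOf ω
    haveI : Fact q.Prime := ⟨hq⟩
    have hωq : ω ^ q = 1 := by
      rw [hω, ← Units.val_pow_eq_pow_val, h, Units.val_one]
    rwa [orderOf_eq_prime hωq (fun e => hω1 (Units.ext e))] at h2
  have hpowscal : ∀ n : N, ∃ a : K, a ≠ 0 ∧ ρ (n : G) ^ q = a • 1 := by
    intro n
    obtain ⟨a, ha⟩ := hrad (n ^ q) (by rw [map_pow]; exact hexp n)
    refine ⟨a, ?_, by rw [← map_pow, ← Subgroup.coe_pow, ha]⟩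
    rintro rfl
    rw [zero_smul] at ha
    have := hinvl ((n ^ q : N) : G)
    rw [ha, mul_zero] at this
    exact zero_ne_one this
  obtain ⟨a, ha, hUp⟩ := hpowscal nu
  obtain ⟨κ, hκ, hYp⟩ := hpowscal y
  obtain ⟨η, hη⟩ := IsAlgClosed.exists_pow_nat_eq a hq.pos
  obtain ⟨a1, ha1⟩ := hrad (cj x nu * nu⁻¹) (by
    rw [map_mul, map_inv, mul_inv_eq_one, ← hσn]
    have := congrArg Subtype.val ((hFN u).mp huF)
    rw [show ((u : W) : N →* Kˣ) = bh nu from hnu'.symm] at this
    change (σ u : N →* Kˣ) = bh nu at this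
    have e : (σ u : N →* Kˣ) = ((u : W) : N →* Kˣ).comp c' := rfl
    rw [e, show ((u : W) : N →* Kˣ) = bh nu from hnu'.symm] at this
    exact this)
  have hinjρ : ∀ g : G, Function.Injective (ρ g) := fun g v w h => by
    have := congrArg (ρ g⁻¹) h
    rwa [← Module.End.mul_apply, ← Module.End.mul_apply, hinvl] at this
  refine two_mul_fix_lt_twist hp5 (ρ x) (ρ (nu : G)) (ρ (y : G)) (hinjρ _) (η := η) (ω := ω) (a := a1) (κ := κ)
    ?_ (hη ▸ hUp) hωp hκ hYp (hβ nu y) ?_ ?_ ?_ (hinjρ x)
  · rintro rfl; rw [zero_pow hq.ne_zero] at hη; exact ha hη.symm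
  · rw [← map_mul, ← map_mul, ← map_mul, hnu]
    congr 1
    simp [cj, mul_assoc]
  · rintro rfl
    rw [zero_smul] at ha1
    have := hinvl ((cj x nu * nu⁻¹ : N) : G)
    rw [ha1, mul_zero] at this
    exact zero_ne_one this
  · rw [← map_mul, show x * (nu : G) = ((cj x nu * nu⁻¹ : N) : G) * ((nu : G) * x) by simp [cj, mul_assoc],
      map_mul, ha1, smul_mul_assoc, one_mul, map_mul]

end CfsgLib.FixBound
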