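import Cfsg.Agent.Lib.FixBound.Abelian
import Cfsg.Agent.Lib.FixBound.Twist

/-!
Fixed spaces of elements of prime order at least `5` in irreducible representations of solvable
groups generated by their conjugates.
-/

set_option autoImplicit false

open scoped commutatorElement TensorProduct

namespace CfsgLib.FixBound

universe u v

variable {G : Type*} [Group G] [Finite G]

section Closed

variable {K V : Type*} [Field K] [IsAlgClosed K] [AddCommGroup V] [Module K V] [FiniteDimensional K V]

/-- The irreducible case over an algebraically closed field. -/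
theorem two_mul_fix_lt_irreducible [Group.IsSolvable G] (ρ : Representation K G V)
    (hirr : ∀ U : Submodule K V, (∀ g, ∀ v ∈ U, ρ g v ∈ U) → U = ⊥ ∨ U = ⊤)
    {x : G} {p : ℕ} (hp : p.Prime) (hp5 : 5 ≤ p) (hxp : x ^ p = 1)
    (hgen : Subgroup.normalClosure ({x} : Set G) = ⊤) (hx1 : ρ x ≠ 1) :
    2 * Module.finrank K (LinearMap.ker (ρ x - 1)) < Module.finrank K V := by
  haveI : Nontrivial V := by
    rcases subsingleton_or_nontrivial V with h | h
    · exact absurd (LinearMap.ext fun v => Subsingleton.elim _ _) hx1
    · exact h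
  by_cases hxs : ∃ a : K, ρ x = a • 1
  · obtain ⟨a, ha⟩ := hxs
    have : LinearMap.ker (ρ x - 1) = ⊥ := by
      rw [LinearMap.ker_eq_bot']
      intro v hv
      rw [LinearMap.sub_apply, ha, LinearMap.smul_apply, Module.End.one_apply] at hv
      have h0 : (a - 1) • v = 0 := by rw [sub_smul, one_smul]; exact hv
      exact (smul_eq_zero.mp h0).resolve_left (fun e => hx1 (by rw [ha, sub_eq_zero.mp e, one_smul]))
    rw [this, finrank_bot]
    exact Module.finrank_pos
  obtain ⟨N, ⟨hNn, hns⟩, hmin⟩ := (Set.toFinite {N : Subgroup G | N.Normal ∧ ¬ ∀ n ∈ N, ∃ a : K, ρ n = a • 1}).exists_minimal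
    ⟨⊤, inferInstance, fun h => hxs (h x trivial)⟩
  haveI := hNn
  by_cases hc : ∀ a ∈ N, ∀ b ∈ N, Commute (ρ a) (ρ b)
  · exact two_mul_fix_lt_of_commuting ρ hirr hp hp5 hxp hgen N hc hns
  · refine two_mul_fix_lt_of_twisted ρ hp hp5 hxp hgen hx1 N hc fun M hM hlt => ?_
    by_contra h
    exact hlt.not_ge (hmin ⟨hM, h⟩ hlt.le)

/-- The case of a representation in which a subgroup has vanishing sum. -/
theorem two_mul_fix_le_of_sum_zero [Group.IsSolvable G] {x : G} {p : ℕ} (hp : p.Prime) (hp5 : 5 ≤ p)
    (hxp : x ^ p = 1) (hgen : Subgroup.normalClosure ({x} : Set G) = ⊤)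
    (M : Subgroup G) [Fintype M] (hMK : (Fintype.card M : K) ≠ 0) :
    ∀ (n : ℕ) (W : Type*) [AddCommGroup W] [Module K W] [FiniteDimensional K W] (ρ : Representation K G W),
      Module.finrank K W ≤ n → (∑ m : M, ρ (m : G) = 0) →
      2 * Module.finrank K (LinearMap.ker (ρ x - 1)) ≤ Module.finrank K W ∧
        (0 < Module.finrank K W → 2 * Module.finrank K (LinearMap.ker (ρ x - 1)) < Module.finrank K W) := by
  intro n
  induction n with
  | zero =>
    intro W _ _ _ ρ hn _
    have := Submodule.finrank_le (LinearMap.ker (ρ x - 1))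
    exact ⟨by omega, fun h => absurd h (by omega)⟩
  | succ n ih =>
    intro W _ _ _ ρ hn hsum
    rcases subsingleton_or_nontrivial W with hW | hW
    · have h0 : Module.finrank K W = 0 := Module.finrank_zero_of_subsingleton
      have := Submodule.finrank_le (LinearMap.ker (ρ x - 1))
      exact ⟨by omega, fun h => absurd h (by omega)⟩
    by_cases hirr : ∀ U : Submodule K W, (∀ g, ∀ v ∈ U, ρ g v ∈ U) → U = ⊥ ∨ U = ⊤
    · have hx1 : ρ x ≠ 1 := by
        intro e
        let S : Subgroup G :=
          { carrier := {g | ρ g = 1}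
            one_mem' := map_one ρ
            mul_mem' := fun {a b} ha hb => show ρ (a * b) = 1 by
              rw [map_mul, show ρ a = 1 from ha, show ρ b = 1 from hb, one_mul]
            inv_mem' := fun {a} ha => show ρ a⁻¹ = 1 by
              have : ρ a⁻¹ * ρ a = 1 := by rw [← map_mul, inv_mul_cancel, map_one]
              rwa [show ρ a = 1 from ha, mul_one] at this }
        haveI : S.Normal := ⟨fun a ha g => show ρ (g * a * g⁻¹) = 1 by
          rw [map_mul, map_mul, show ρ a = 1 from ha, mul_one, ← map_mul, mul_inv_cancel, map_one]⟩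
        have hall : ∀ g, ρ g = 1 := fun g =>
          (hgen ▸ Subgroup.normalClosure_le_normal (Set.singleton_subset_iff.mpr e) : (⊤ : Subgroup G) ≤ S) trivial
        simp only [hall, Finset.sum_const, Finset.card_univ] at hsum
        rw [← Nat.cast_smul_eq_nsmul K] at hsum
        obtain ⟨v, hv⟩ := exists_ne (0 : W)
        have := LinearMap.congr_fun hsum v
        rw [LinearMap.smul_apply, Module.End.one_apply, LinearMap.zero_apply] at this
        exact hv ((smul_eq_zero.mp this).resolve_left hMK)
      have h := two_mul_fix_lt_irreducible ρ hirr hp hp5 hxp hgen hx1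
      exact ⟨h.le, fun _ => h⟩
    · push_neg at hirr
      obtain ⟨U, hU, hUb, hUt⟩ := hirr
      let ρU : Representation K G U :=
        { toFun := fun g => (ρ g).restrict (fun v hv => hU g v hv)
          map_one' := LinearMap.ext fun v => Subtype.ext (by simp)
          map_mul' := fun g h => LinearMap.ext fun v => Subtype.ext (by simp) }
      have hle : ∀ g, U ≤ U.comap (ρ g) := fun g v hv => hU g v hv
      let ρQ : Representation K G (W ⧸ U) :=
        { toFun := fun g => U.mapQ U (ρ g) (hle g)
          map_one' := Submodule.linearMap_qext _ (LinearMap.ext fun v => by simp)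
          map_mul' := fun g h => Submodule.linearMap_qext _ (LinearMap.ext fun v => by simp) }
      have hUlt := Submodule.finrank_lt hUt
      have hQ := U.finrank_quotient_add_finrank
      have hUpos : 0 < Module.finrank K U := by
        rw [Module.finrank_pos_iff]; exact Submodule.nontrivial_iff_ne_bot.mpr hUb
      obtain ⟨h1, h1'⟩ := ih U ρU (by omega) (LinearMap.ext fun v => Subtype.ext (by
        have := LinearMap.congr_fun hsum (v : W)
        simpa [ρU, LinearMap.coe_sum] using this))
      obtain ⟨h2, h2'⟩ := ih (W ⧸ U) ρQ (by omega) (Submodule.linearMap_qext _ (LinearMap.ext fun v => by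
        have := congrArg (Submodule.Quotient.mk (p := U)) (LinearMap.congr_fun hsum v)
        simp only [LinearMap.coe_sum, Finset.sum_apply, LinearMap.zero_apply, Submodule.Quotient.mk_zero] at this
        simp only [LinearMap.comp_apply, LinearMap.coe_sum, Finset.sum_apply, Submodule.mkQ_apply,
          LinearMap.zero_apply]
        rw [← this]
        exact (map_sum U.mkQ _ _).symm))
      -- the kernel of the restriction and of the image
      set A := LinearMap.ker (ρ x - 1)
      let f : A →ₗ[K] LinearMap.ker (ρQ x - 1) :=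
        LinearMap.codRestrict _ (U.mkQ.comp A.subtype) (fun v => by
          rw [LinearMap.mem_ker, LinearMap.sub_apply, sub_eq_zero]
          have hv := v.2
          rw [LinearMap.mem_ker, LinearMap.sub_apply, sub_eq_zero] at hv
          change U.mapQ U (ρ x) (hle x) (U.mkQ (v : W)) = U.mkQ (v : W)
          rw [Submodule.mkQ_apply, Submodule.mapQ_apply, hv, Module.End.one_apply])
      have hf := f.finrank_range_add_finrank_ker
      have hr := Submodule.finrank_le (LinearMap.range f)
      let g : LinearMap.ker f →ₗ[K] LinearMap.ker (ρU x - 1) :=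
        LinearMap.codRestrict _ (LinearMap.codRestrict U (A.subtype.comp (LinearMap.ker f).subtype) (fun v => by
          have hv : U.mkQ ((v : A) : W) = 0 := congrArg Subtype.val v.2
          exact (Submodule.Quotient.mk_eq_zero U).mp hv)) (fun v => by
          rw [LinearMap.mem_ker, LinearMap.sub_apply, sub_eq_zero]
          have hv := (v : A).2
          rw [LinearMap.mem_ker, LinearMap.sub_apply, sub_eq_zero] at hv
          exact Subtype.ext hv)
      have hg := LinearMap.finrank_le_finrank_of_injective (f := g) (fun a b h => Subtype.ext (Subtype.ext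
        (congrArg (fun z => ((z : U) : W)) (congrArg Subtype.val h))))
      have := h1' hUpos
      exact ⟨by omega, fun _ => by omega⟩

end Closed

/-- The fixed space bound over any field. -/
theorem two_mul_fix_lt [Group.IsSolvable G] {k V : Type*} [Field k] [AddCommGroup V] [Module k V]
    [FiniteDimensional k V] [Nontrivial V] (ρ : Representation k G V)
    (hirr : ∀ U : Submodule k V, (∀ g, ∀ v ∈ U, ρ g v ∈ U) → U = ⊥ ∨ U = ⊤)
    (hfaith : Function.Injective ρ) {x : G} {p : ℕ} (hp : p.Prime) (hp5 : 5 ≤ p) (hxp : x ^ p = 1)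
    (hx : x ≠ 1) (hgen : Subgroup.normalClosure ({x} : Set G) = ⊤) :
    2 * Module.finrank k (LinearMap.ker (ρ x - 1)) < Module.finrank k V := by
  classical
  haveI : Nontrivial G := ⟨⟨x, 1, hx⟩⟩
  -- a normal abelian group of prime exponent
  obtain ⟨A, ⟨hAn, hA1⟩, hAmin⟩ := (Set.toFinite {N : Subgroup G | N.Normal ∧ N ≠ ⊥}).exists_minimal
    ⟨⊤, inferInstance, top_ne_bot⟩
  have hbot : (⊥ : Subgroup G) < A := bot_lt_iff_ne_bot.mpr hA1
  have hcomm := commutator_le_of_minimal (⊥ : Subgroup G) A hbot (fun K hK _ hlt => by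
    by_contra h; exact hlt.not_ge (hAmin ⟨hK, h⟩ hlt.le))
  have hcomm' : ∀ a ∈ A, ∀ b ∈ A, a * b = b * a := fun a ha b hb =>
    commutatorElement_eq_one_iff_mul_comm.mp (Subgroup.mem_bot.mp (hcomm (Subgroup.commutator_mem_commutator ha hb)))
  obtain ⟨a0, ha0, ha01⟩ := A.bot_or_exists_ne_one.resolve_left hA1
  set q := (orderOf a0).minFac with hqdef
  have hq : q.Prime := Nat.minFac_prime (fun e => ha01 (orderOf_eq_one_iff.mp e))
  haveI := Fact.mk hq
  have hexp : ∀ a ∈ A, a ^ q = 1 := by
    let T : Subgroup G :=
      { carrier := {a | a ∈ A ∧ a ^ q = 1}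
        one_mem' := ⟨A.one_mem, one_pow q⟩
        mul_mem' := fun {a b} ha hb => ⟨A.mul_mem ha.1 hb.1, by
          rw [(show Commute a b from hcomm' a ha.1 b hb.1).mul_pow, ha.2, hb.2, one_mul]⟩
        inv_mem' := fun {a} ha => ⟨A.inv_mem ha.1, by rw [inv_pow, ha.2, inv_one]⟩ }
    haveI : T.Normal := ⟨fun a ha g => ⟨hAn.conj_mem a ha.1 g, by rw [conj_pow, ha.2, mul_one, mul_inv_cancel]⟩⟩
    have hTle : T ≤ A := fun a ha => ha.1
    have hT1 : T ≠ ⊥ := fun e => by
      set m := orderOf a0 / q
      have hm : m < orderOf a0 := Nat.div_lt_self (orderOf_pos _) hq.one_lt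
      have hm0 : m ≠ 0 := (Nat.div_pos (Nat.minFac_le (orderOf_pos _)) hq.pos).ne'
      refine pow_ne_one_of_lt_orderOf hm0 hm (Subgroup.mem_bot.mp (e ▸ ?_))
      exact ⟨A.pow_mem ha0 m, by rw [← pow_mul, Nat.div_mul_cancel (Nat.minFac_dvd _), pow_orderOf_eq_one]⟩
    intro a ha
    exact (hAmin ⟨inferInstance, hT1⟩ hTle ha).2
  have hfix : ∀ v : V, (∀ a ∈ A, ρ a v = v) → v = 0 := by
    let U : Submodule k V := ⨅ a : A, LinearMap.ker (ρ (a : G) - 1)
    have hU : ∀ v, v ∈ U ↔ ∀ a ∈ A, ρ a v = v := fun v => by
      simp [U, sub_eq_zero]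
    have hinv : ∀ g, ∀ v ∈ U, ρ g v ∈ U := by
      intro g v hv
      rw [hU] at hv ⊢
      intro a ha
      calc ρ a (ρ g v) = ρ g (ρ (g⁻¹ * a * g) v) := by
            rw [← Module.End.mul_apply, ← Module.End.mul_apply, ← map_mul, ← map_mul]
            congr 2; group
        _ = ρ g v := by rw [hv _ (by simpa using hAn.conj_mem a ha g⁻¹)]
    intro v hv
    rcases hirr U hinv with e | e
    · exact (Submodule.mem_bot k).mp (e ▸ (hU v).mpr hv)
    · exfalso
      refine ha01 (hfaith (LinearMap.ext fun w => ?_))
      rw [map_one, Module.End.one_apply]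
      exact (hU w).mp (e ▸ Submodule.mem_top) a0 ha0
  have hqk : (q : k) ≠ 0 := by
    intro h
    haveI : CharP k q := (CharP.charP_iff_prime_eq_zero hq).mpr h
    haveI : CharP (Module.End k V) q := charP_of_injective_algebraMap (R := k) (A := Module.End k V)
      (FaithfulSMul.algebraMap_injective k (Module.End k V)) q
    -- commuting unipotent operators have a common fixed vector
    have key : ∀ s : Finset G, (∀ a ∈ s, a ∈ A) → ∃ v : V, v ≠ 0 ∧ ∀ a ∈ s, ρ a v = v := by
      intro s
      induction s using Finset.induction_on with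
      | empty => intro _; obtain ⟨v, hv⟩ := exists_ne (0 : V); exact ⟨v, hv, by simp⟩
      | insert a s _ ih =>
        intro hs
        obtain ⟨v, hv0, hv⟩ := ih (fun b hb => hs b (Finset.mem_insert_of_mem hb))
        have haA := hs a (Finset.mem_insert_self a s)
        set D := ρ a - 1 with hD
        have hDq : D ^ q = 0 := by
          rw [hD, sub_pow_char_of_commute q (Commute.one_right _), one_pow, ← map_pow,
            hexp a haA, map_one, sub_self]
        have hex : ∃ n : ℕ, (D ^ n) v = 0 := ⟨q, by rw [hDq]; rfl⟩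
        obtain ⟨n, hn⟩ : ∃ n, Nat.find hex = n + 1 := Nat.exists_eq_add_one.mpr (Nat.pos_of_ne_zero fun e => by
          have := Nat.find_spec hex; rw [e, pow_zero] at this; exact hv0 this)
        refine ⟨(D ^ n) v, Nat.find_min hex (by omega), fun b hb => ?_⟩
        rcases Finset.mem_insert.mp hb with rfl | hb'
        · have h := Nat.find_spec hex
          rw [hn, pow_succ', Module.End.mul_apply, hD, LinearMap.sub_apply, sub_eq_zero] at h
          exact h
        · have hc : Commute (ρ b) (D ^ n) := by
            refine Commute.pow_right ?_ n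
            refine Commute.sub_right ?_ (Commute.one_right _)
            rw [Commute, SemiconjBy, ← map_mul, ← map_mul, hcomm' b (hs b hb) a haA]
          rw [← Module.End.mul_apply, hc.eq, Module.End.mul_apply, hv b hb']
    haveI := Fintype.ofFinite G
    obtain ⟨v, hv0, hv⟩ := key (Finset.univ.filter (· ∈ A)) (fun a ha => (Finset.mem_filter.mp ha).2)
    exact hv0 (hfix v fun a ha => hv a (Finset.mem_filter.mpr ⟨Finset.mem_univ a, ha⟩))
  haveI : Fintype A := Fintype.ofFinite A
  have hsum : ∑ a : A, ρ (a : G) = 0 := by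
    refine LinearMap.ext fun v => hfix _ fun b hb => ?_
    simp only [LinearMap.coe_sum, Finset.sum_apply, map_sum]
    exact Fintype.sum_equiv (Equiv.mulLeft ⟨b, hb⟩) _ _ (fun a => by
      rw [← Module.End.mul_apply, ← map_mul]; rfl)
  let K := AlgebraicClosure k
  let ρK : Representation K G (K ⊗[k] V) :=
    { toFun := fun g => (ρ g).baseChange K
      map_one' := by rw [map_one]; ext v; simp
      map_mul' := fun g h => by rw [map_mul]; ext v; simp }
  have hMK : (Fintype.card A : K) ≠ 0 := by
    have hAp : IsPGroup q A := fun a => ⟨1, by rw [pow_one]; exact Subtype.ext (hexp a a.2)⟩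
    obtain ⟨n, hn⟩ := IsPGroup.iff_card.mp hAp
    rw [← Nat.card_eq_fintype_card, hn, Nat.cast_pow]
    refine pow_ne_zero _ ?_
    rw [← map_natCast (algebraMap k K), map_ne_zero]
    exact hqk
  have hsumK : ∑ a : A, ρK (a : G) = 0 := by
    change ∑ a : A, (ρ (a : G)).baseChange K = 0
    have h := map_sum (LinearMap.baseChangeHom k K V V) (fun a : A => ρ (a : G)) Finset.univ
    rw [hsum, map_zero] at h
    exact h.symm
  have hVpos : 0 < Module.finrank k V := Module.finrank_pos
  have hKV : Module.finrank K (K ⊗[k] V) = Module.finrank k V := Module.finrank_baseChange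
  have h := (two_mul_fix_le_of_sum_zero (K := K) hp hp5 hxp hgen A hMK (Module.finrank K (K ⊗[k] V))
    (K ⊗[k] V) ρK le_rfl hsumK).2 (by omega)
  have hle : Module.finrank k (LinearMap.ker (ρ x - 1)) ≤ Module.finrank K (LinearMap.ker (ρK x - 1)) := by
    have hinj : Function.Injective ((LinearMap.ker (ρ x - 1)).subtype.baseChange K) :=
      Module.Flat.lTensor_preserves_injective_linearMap _ Subtype.val_injective
    rw [← Module.finrank_baseChange (R := K) (S := k) (M' := LinearMap.ker (ρ x - 1))]
    refine LinearMap.finrank_le_finrank_of_injective (f := LinearMap.codRestrict (LinearMap.ker (ρK x - 1))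
      ((LinearMap.ker (ρ x - 1)).subtype.baseChange K) (fun z => ?_)) (fun a b e => hinj (congrArg Subtype.val e))
    rw [LinearMap.mem_ker, LinearMap.sub_apply, sub_eq_zero]
    induction z using TensorProduct.induction_on with
    | zero => simp
    | tmul c w =>
      have hw := w.2
      rw [LinearMap.mem_ker, LinearMap.sub_apply, sub_eq_zero, Module.End.one_apply] at hw
      change (ρ x).baseChange K (c ⊗ₜ[k] (w : V)) = c ⊗ₜ[k] (w : V)
      rw [LinearMap.baseChange_tmul, hw]
    | add a b ha hb => rw [map_add, map_add, map_add, ha, hb]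
  omega

end CfsgLib.FixBound
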