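import Mathlib

/-!
Bounds for the fixed space of an operator permuting the components of a decomposition.
-/

set_option autoImplicit false

namespace CfsgLib.FixBound

variable {X : Type*}

/-- Representatives of the orbits of a permutation of prime order. -/
theorem exists_reps [Finite X] {p : ℕ} (hp : p.Prime) (σ : X → X) (hσ : ∀ i, σ^[p] i = i) :
    ∃ R : Finset X, (∀ i, ∃ r ∈ R, ∃ n : ℕ, σ^[n] r = i) ∧
      p * R.card ≤ Nat.card X + (p - 1) * Nat.card {i : X // σ i = i} := by
  classical
  have := Fintype.ofFinite X
  suffices key : ∀ S : Finset X, (∀ i ∈ S, σ i ∈ S) →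
      ∃ R : Finset X, (∀ i ∈ S, ∃ r ∈ R, ∃ n : ℕ, σ^[n] r = i) ∧
        p * R.card ≤ S.card + (p - 1) * (S.filter fun i => σ i = i).card by
    obtain ⟨R, h1, h2⟩ := key Finset.univ (fun i _ => Finset.mem_univ _)
    refine ⟨R, fun i => h1 i (Finset.mem_univ _), ?_⟩
    rwa [Nat.card_eq_fintype_card, Nat.card_eq_fintype_card, Fintype.card_subtype, ← Finset.card_univ]
  intro S
  induction S using Finset.strongInduction with
  | _ S ih =>
    intro hS
    rcases S.eq_empty_or_nonempty with rfl | ⟨i, hi⟩
    · exact ⟨∅, by simp, by simp⟩
    set O : Finset X := (Finset.range p).image fun n => σ^[n] i with hO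
    have hiO : i ∈ O := Finset.mem_image.mpr ⟨0, by simp [hp.pos], rfl⟩
    have hinj : Function.Injective σ := by
      intro a b hab
      have := congrArg (σ^[p - 1]) hab
      rwa [← Function.iterate_succ_apply, ← Function.iterate_succ_apply, Nat.succ_eq_add_one,
        Nat.sub_add_cancel hp.pos, hσ, hσ] at this
    have hOS : O ⊆ S := by
      intro j hj
      obtain ⟨n, -, rfl⟩ := Finset.mem_image.mp hj
      clear hj
      induction n with
      | zero => exact hi
      | succ n ihn => rw [Function.iterate_succ_apply']; exact hS _ ihn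
    have hOclosed : ∀ j ∈ O, σ j ∈ O := by
      intro j hj
      obtain ⟨n, hn, rfl⟩ := Finset.mem_image.mp hj
      rw [← Function.iterate_succ_apply' σ n i]
      rcases eq_or_lt_of_le (Nat.succ_le_of_lt (Finset.mem_range.mp hn)) with h | h
      · rw [h, hσ]; exact hiO
      · exact Finset.mem_image.mpr ⟨_, Finset.mem_range.mpr h, rfl⟩
    have hmap : ∀ j ∈ S \ O, σ j ∈ S \ O := by
      intro j hj
      rw [Finset.mem_sdiff] at hj ⊢
      refine ⟨hS j hj.1, fun h => hj.2 ?_⟩
      have hsurj : O.image σ = O :=
        Finset.eq_of_subset_of_card_le (Finset.image_subset_iff.mpr hOclosed)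
          (by rw [Finset.card_image_of_injective _ hinj])
      rw [← hsurj] at h
      obtain ⟨j', hj', e⟩ := Finset.mem_image.mp h
      exact hinj e ▸ hj'
    obtain ⟨R, hR, hcard⟩ := ih (S \ O) (Finset.sdiff_ssubset hOS ⟨i, hiO⟩) hmap
    refine ⟨insert i R, fun j hj => ?_, ?_⟩
    · by_cases hjO : j ∈ O
      · obtain ⟨n, -, rfl⟩ := Finset.mem_image.mp hjO
        exact ⟨i, Finset.mem_insert_self _ _, n, rfl⟩
      · obtain ⟨r, hr, h⟩ := hR j (Finset.mem_sdiff.mpr ⟨hj, hjO⟩)
        exact ⟨r, Finset.mem_insert_of_mem hr, h⟩
    have h1 := Finset.card_sdiff_add_card_eq_card hOS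
    have h2 : ((S \ O).filter fun j => σ j = j).card + (O.filter fun j => σ j = j).card =
        (S.filter fun j => σ j = j).card := by
      rw [← Finset.card_union_of_disjoint
        (Finset.disjoint_filter_filter Finset.sdiff_disjoint), ← Finset.filter_union,
        Finset.sdiff_union_of_subset hOS]
    have h3 : p ≤ O.card + (p - 1) * (O.filter fun j => σ j = j).card := by
      by_cases hfix : σ i = i
      · have : 1 ≤ (O.filter fun j => σ j = j).card :=
          Finset.card_pos.mpr ⟨i, Finset.mem_filter.mpr ⟨hiO, hfix⟩⟩
        have hO1 : 1 ≤ O.card := Finset.card_pos.mpr ⟨i, hiO⟩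
        have := Nat.mul_le_mul_left (p - 1) this
        omega
      · have hmin : Function.minimalPeriod σ i = p := by
          rcases hp.eq_one_or_self_of_dvd _
            (Function.IsPeriodicPt.minimalPeriod_dvd (hσ i : Function.IsPeriodicPt σ p i)) with h | h
          · exact absurd (Function.minimalPeriod_eq_one_iff_isFixedPt.mp h) hfix
          · exact h
        have : O.card = p := by
          rw [hO, Finset.card_image_of_injOn, Finset.card_range]
          intro a ha b hb hab
          simp only [Finset.coe_range, Set.mem_Iio] at ha hb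
          exact Function.iterate_injOn_Iio_minimalPeriod (by rw [hmin]; exact ha)
            (by rw [hmin]; exact hb) hab
        omega
    calc p * (insert i R).card ≤ p * (R.card + 1) := Nat.mul_le_mul_left p (Finset.card_insert_le i R)
      _ = p * R.card + p := by ring
      _ ≤ (S \ O).card + (p - 1) * ((S \ O).filter fun j => σ j = j).card +
          (O.card + (p - 1) * (O.filter fun j => σ j = j).card) := Nat.add_le_add hcard h3
      _ = _ := by rw [← h1, ← h2]; ring

variable {K V : Type*} [Field K] [AddCommGroup V] [Module K V] [FiniteDimensional K V]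

/-- The fixed space of an operator permuting components is bounded by the orbit representatives. -/
theorem finrank_ker_le_reps [Fintype X] (π : X → Module.End K V) (hπ : ∑ i, π i = 1)
    (T : Module.End K V) (σ : X → X) (hT : ∀ i v, T (π i v) = π (σ i) (T v)) (R : Finset X)
    (hR : ∀ i, ∃ r ∈ R, ∃ n : ℕ, σ^[n] r = i) (d : ℕ)
    (hd : ∀ i, Module.finrank K (LinearMap.range (π i)) ≤ d) :
    Module.finrank K (LinearMap.ker (T - 1)) ≤ R.card * d := by
  let f : LinearMap.ker (T - 1) →ₗ[K] ((r : R) → LinearMap.range (π r)) :=
    LinearMap.pi fun r => (π r).rangeRestrict.comp (Submodule.subtype _)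
  have hf : Function.Injective f := by
    rw [← LinearMap.ker_eq_bot, LinearMap.ker_eq_bot']
    intro v hv
    have hfix : T (v : V) = v := by
      have h := v.2
      rw [LinearMap.mem_ker, LinearMap.sub_apply, sub_eq_zero] at h
      exact h
    have h0 : ∀ r ∈ R, π r (v : V) = 0 := fun r hr =>
      congrArg Subtype.val (congrFun hv ⟨r, hr⟩)
    have hall : ∀ i, π i (v : V) = 0 := by
      intro i
      obtain ⟨r, hr, n, rfl⟩ := hR i
      induction n with
      | zero => exact h0 r hr
      | succ n ih =>
        rw [Function.iterate_succ_apply']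
        have := hT (σ^[n] r) v
        rw [hfix, ih, map_zero] at this
        exact this.symm
    apply Subtype.ext
    have := congrArg (fun g : Module.End K V => g (v : V)) hπ
    simp only [LinearMap.coe_sum, Finset.sum_apply, hall, Finset.sum_const_zero] at this
    exact this.symm
  calc Module.finrank K (LinearMap.ker (T - 1)) ≤ Module.finrank K ((r : R) → LinearMap.range (π r)) :=
        LinearMap.finrank_le_finrank_of_injective hf
    _ = ∑ r : R, Module.finrank K (LinearMap.range (π r)) := Module.finrank_pi_fintype K
    _ ≤ ∑ _r : R, d := Finset.sum_le_sum fun r _ => hd r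
    _ = R.card * d := by simp

/-- The dimension is the sum of the dimensions of the components. -/
theorem sum_finrank_range [Fintype X] [DecidableEq X] (π : X → Module.End K V) (hπ : ∑ i, π i = 1)
    (hπ0 : ∀ i j, i ≠ j → π i * π j = 0) :
    ∑ i, Module.finrank K (LinearMap.range (π i)) = Module.finrank K V := by
  have hsum : ∀ w, ∑ i, π i w = w := fun w => by
    have := congrArg (fun g : Module.End K V => g w) hπ
    simpa using this
  have hid : ∀ i (w : V), π i (π i w) = π i w := by
    intro i w
    conv_rhs => rw [← hsum (π i w)]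
    rw [Finset.sum_eq_single i]
    · intro j _ hj
      exact LinearMap.congr_fun (hπ0 j i hj) w
    · simp
  have hbij : Function.Bijective (LinearMap.pi fun i => (π i).rangeRestrict) := by
    constructor
    · intro w w' h
      rw [← hsum w, ← hsum w']
      exact Finset.sum_congr rfl fun i _ => congrArg Subtype.val (congrFun h i)
    · intro f
      refine ⟨∑ i, (f i : V), funext fun i => Subtype.ext ?_⟩
      change π i (∑ j, (f j : V)) = f i
      rw [map_sum, Finset.sum_eq_single i]
      · obtain ⟨u, hu⟩ := (f i).2
        rw [← hu, hid]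
      · intro j _ hj
        obtain ⟨u, hu⟩ := (f j).2
        rw [← hu]
        exact LinearMap.congr_fun (hπ0 i j (Ne.symm hj)) u
      · simp
  have e := LinearEquiv.ofBijective _ hbij
  rw [e.finrank_eq, Module.finrank_pi_fintype]

end CfsgLib.FixBound
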